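import Mathlib
import Cfsg.Agent.H608.TI.Final
import Cfsg.Agent.H609.TwoDefect
import Cfsg.Agent.S0920
import Cfsg.Agent.S0908

/-!
# S4622, block part: the Brauer correspondent, defects and heights (helper31)

* `kd p B d`, `kh p B h`: the numbers of the members of `B` of defect `d`, of height `h`;
* `Concl p M B D`: the conclusion of S4622 (for all `d`);
* `exists_br`, `rhs_eq`, `concl_iff`: the Brauer correspondent `b` in `N_G(D)`;
* `defect_iff`, `kd_eq_kh`, `concl_of_kh`: from heights to defects.
-/

set_option autoImplicit false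
set_option linter.unusedSectionVars false

namespace Cfsg.Agent.TID.Blk

open Cfsg Cfsg.Agent.Blocks.Basic Cfsg.Agent.Blocks.Local

universe u

/-- The number of the members of `B` of defect `d`. -/
noncomputable def kd (p : ℕ) {G : Type u} [Group G] (B : Set (IrrCharacter G)) (d : ℕ) : ℕ :=
  Nat.card {χ : IrrCharacter G // χ ∈ B ∧
    (Nat.card G).factorization p = d + (charDegree (χ : G → ℂ)).factorization p}

/-- The number of the members of `B` of height `h`. -/
noncomputable def kh (p : ℕ) {G : Type u} [Group G] (B : Set (IrrCharacter G)) (h : ℕ) : ℕ :=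
  Nat.card {χ : IrrCharacter G // χ ∈ B ∧ blockHeight p B (χ : G → ℂ) = h}

/-- The conclusion of S4622. -/
def Concl (p : ℕ) (M : Ideal AlgInt) {G : Type u} [Group G] (B : Set (IrrCharacter G)) (D : Subgroup G) : Prop :=
  ∀ d : ℕ, Nat.card {χ : IrrCharacter G // χ ∈ B ∧
      (Nat.card G).factorization p = d + (charDegree (χ : G → ℂ)).factorization p} =
    Nat.card {ψ : IrrCharacter (Subgroup.normalizer (D : Set G)) //
      (∃ b : Set (IrrCharacter (Subgroup.normalizer (D : Set G))), ψ ∈ b ∧
        IsInducedBlock M (Subgroup.normalizer (D : Set G)) b B) ∧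
      (Nat.card (Subgroup.normalizer (D : Set G))).factorization p =
        d + (charDegree (ψ : Subgroup.normalizer (D : Set G) → ℂ)).factorization p}

variable {G : Type u} [Group G] [Finite G] {p : ℕ} [Fact p.Prime] {M : Ideal AlgInt}
  {B : Set (IrrCharacter G)} {D : Subgroup G}

/-- The Brauer correspondent exists. -/
theorem exists_br (hM : IsPModular p M) (hB : IsPBlock M B) (hD : IsDefectGroup p M B D) :
    ∃ b : Set (IrrCharacter (Subgroup.normalizer (D : Set G))),
      IsInducedBlock M (Subgroup.normalizer (D : Set G)) b B := by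
  obtain ⟨b, hb, -⟩ := (Cfsg.Agent.S0920.result p M hM D (isPGroup_of_isDefectGroup hD)).2 B hB hD
  exact ⟨b, hb.2.2⟩

/-- The Brauer correspondent has defect group `D`. -/
theorem defect_br (hM : IsPModular p M) (hD : IsDefectGroup p M B D)
    {b : Set (IrrCharacter (Subgroup.normalizer (D : Set G)))}
    (hb : IsInducedBlock M (Subgroup.normalizer (D : Set G)) b B) :
    IsDefectGroup p M b (D.subgroupOf (Subgroup.normalizer (D : Set G))) :=
  H608.TI.defect_of_induced hM (isPGroup_of_isDefectGroup hD) hb.2.1 hD hb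

/-- The Brauer correspondent is unique. -/
theorem uniq_br (hM : IsPModular p M) (hD : IsDefectGroup p M B D)
    {b b' : Set (IrrCharacter (Subgroup.normalizer (D : Set G)))}
    (hb : IsInducedBlock M (Subgroup.normalizer (D : Set G)) b B)
    (hb' : IsInducedBlock M (Subgroup.normalizer (D : Set G)) b' B) : b = b' :=
  H608.TI.uniq_induced hM (isPGroup_of_isDefectGroup hD) hb.2.1 hD hb hb'

omit [Finite G] [Fact p.Prime] in
theorem card_sub (D : Subgroup G) :
    Nat.card (D.subgroupOf (Subgroup.normalizer (D : Set G))) = Nat.card D :=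
  Nat.card_congr (Subgroup.subgroupOfEquivOfLe Subgroup.le_normalizer).toEquiv

/-- The two blocks have the same defect. -/
theorem blockDefect_br (hM : IsPModular p M) (hD : IsDefectGroup p M B D)
    {b : Set (IrrCharacter (Subgroup.normalizer (D : Set G)))}
    (hb : IsInducedBlock M (Subgroup.normalizer (D : Set G)) b B) :
    blockDefect p b = blockDefect p B := by
  have h1 := Cfsg.Agent.S0908.result p M hM B hb.2.1 D hD
  have h2 := Cfsg.Agent.S0908.result p M hM b hb.1 _ (defect_br hM hD hb)
  rw [card_sub, h1] at h2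
  exact (Nat.pow_right_injective (Fact.out : p.Prime).two_le h2).symm

/-- The conclusion of S4622 in terms of the Brauer correspondent. -/
theorem concl_iff (hM : IsPModular p M) (hD : IsDefectGroup p M B D)
    {b : Set (IrrCharacter (Subgroup.normalizer (D : Set G)))}
    (hb : IsInducedBlock M (Subgroup.normalizer (D : Set G)) b B) :
    Concl p M B D ↔ ∀ d, kd p B d = kd p b d := by
  have key : ∀ d : ℕ, Nat.card {ψ : IrrCharacter (Subgroup.normalizer (D : Set G)) //
      (∃ b : Set (IrrCharacter (Subgroup.normalizer (D : Set G))), ψ ∈ b ∧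
        IsInducedBlock M (Subgroup.normalizer (D : Set G)) b B) ∧
      (Nat.card (Subgroup.normalizer (D : Set G))).factorization p =
        d + (charDegree (ψ : Subgroup.normalizer (D : Set G) → ℂ)).factorization p} = kd p b d := by
    intro d
    refine Nat.card_congr (Equiv.subtypeEquivRight fun ψ => and_congr_left fun _ => ?_)
    constructor
    · rintro ⟨b', h1, h2⟩
      rw [uniq_br hM hD hb h2]
      exact h1
    · exact fun h => ⟨b, h, hb⟩
  unfold Concl
  simp only [key]
  rfl

omit [Fact p.Prime] in
theorem fact_le (χ : IrrCharacter G) :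
    (charDegree (χ : G → ℂ)).factorization p ≤ (Nat.card G).factorization p :=
  (Nat.factorization_le_iff_dvd (H608.TI.charDegree_ne χ) Nat.card_pos.ne').2 (H608.TI.charDegree_dvd' χ) p

omit [Fact p.Prime] in
/-- Defect and height. -/
theorem defect_iff {χ : IrrCharacter G} (hχ : χ ∈ B) (d : ℕ) :
    (Nat.card G).factorization p = d + (charDegree (χ : G → ℂ)).factorization p ↔
      d + blockHeight p B (χ : G → ℂ) = blockDefect p B := by
  have h1 : sInf ((fun ψ : IrrCharacter G => (charDegree (ψ : G → ℂ)).factorization p) '' B) ≤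
      (charDegree (χ : G → ℂ)).factorization p := Nat.sInf_le ⟨χ, hχ, rfl⟩
  have h2 := fact_le (p := p) χ
  rw [blockHeight_def, blockDefect_def]
  omega

omit [Fact p.Prime] in
theorem height_le {χ : IrrCharacter G} (hχ : χ ∈ B) : blockHeight p B (χ : G → ℂ) ≤ blockDefect p B := by
  have h1 : sInf ((fun ψ : IrrCharacter G => (charDegree (ψ : G → ℂ)).factorization p) '' B) ≤
      (charDegree (χ : G → ℂ)).factorization p := Nat.sInf_le ⟨χ, hχ, rfl⟩
  have h2 := fact_le (p := p) χ
  rw [blockHeight_def, blockDefect_def]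
  omega

omit [Fact p.Prime] in
/-- The `p`-part of the degree. -/
theorem fact_degree {χ : IrrCharacter G} (hχ : χ ∈ B) :
    (charDegree (χ : G → ℂ)).factorization p + blockDefect p B =
      (Nat.card G).factorization p + blockHeight p B (χ : G → ℂ) := by
  have h1 : sInf ((fun ψ : IrrCharacter G => (charDegree (ψ : G → ℂ)).factorization p) '' B) ≤
      (charDegree (χ : G → ℂ)).factorization p := Nat.sInf_le ⟨χ, hχ, rfl⟩
  have h2 := fact_le (p := p) χ
  rw [blockHeight_def, blockDefect_def]
  omega

omit [Fact p.Prime] in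
theorem kd_eq_kh (B : Set (IrrCharacter G)) {d : ℕ} (hd : d ≤ blockDefect p B) :
    kd p B d = kh p B (blockDefect p B - d) := by
  refine Nat.card_congr (Equiv.subtypeEquivRight fun χ => and_congr_right fun hχ => ?_)
  rw [defect_iff hχ]
  omega

omit [Fact p.Prime] in
theorem kd_eq_zero (B : Set (IrrCharacter G)) {d : ℕ} (hd : blockDefect p B < d) : kd p B d = 0 := by
  have : IsEmpty {χ : IrrCharacter G // χ ∈ B ∧
      (Nat.card G).factorization p = d + (charDegree (χ : G → ℂ)).factorization p} := by
    refine ⟨fun χ => ?_⟩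
    have h1 := (defect_iff χ.2.1 d).1 χ.2.2
    omega
  exact Nat.card_of_isEmpty

omit [Fact p.Prime] in
theorem kh_eq_zero (B : Set (IrrCharacter G)) {h : ℕ} (hh : ∀ χ ∈ B, blockHeight p B (χ : G → ℂ) ≠ h) :
    kh p B h = 0 := by
  have : IsEmpty {χ : IrrCharacter G // χ ∈ B ∧ blockHeight p B (χ : G → ℂ) = h} :=
    ⟨fun χ => hh χ χ.2.1 χ.2.2⟩
  exact Nat.card_of_isEmpty

omit [Fact p.Prime] in
theorem kh_eq_card (B : Set (IrrCharacter G)) {h : ℕ} (hh : ∀ χ ∈ B, blockHeight p B (χ : G → ℂ) = h) :
    kh p B h = Nat.card B :=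
  Nat.card_congr (Equiv.subtypeEquivRight fun χ => ⟨fun h1 => h1.1, fun h1 => ⟨h1, hh χ h1⟩⟩)

/-- From defects to heights and back. -/
theorem kd_iff_kh {H : Type u} [Group H] [Finite H] {b : Set (IrrCharacter H)}
    (hd : blockDefect p b = blockDefect p B) :
    (∀ d, kd p B d = kd p b d) ↔ ∀ h, kh p B h = kh p b h := by
  constructor
  · intro H1 h
    by_cases hh : h ≤ blockDefect p B
    · have h1 := H1 (blockDefect p B - h)
      rw [kd_eq_kh B (by omega), kd_eq_kh b (by omega), hd] at h1
      rwa [show blockDefect p B - (blockDefect p B - h) = h by omega] at h1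
    · rw [kh_eq_zero B, kh_eq_zero b]
      · intro χ hχ h1
        have := height_le (p := p) hχ
        omega
      · intro χ hχ h1
        have := height_le (p := p) hχ
        omega
  · intro H1 d
    by_cases hh : d ≤ blockDefect p B
    · rw [kd_eq_kh B hh, kd_eq_kh b (by omega), hd, H1]
    · rw [kd_eq_zero B (by omega), kd_eq_zero b (by omega)]

/-- The conclusion of S4622 in terms of heights. -/
theorem concl_iff_kh (hM : IsPModular p M) (hD : IsDefectGroup p M B D)
    {b : Set (IrrCharacter (Subgroup.normalizer (D : Set G)))}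
    (hb : IsInducedBlock M (Subgroup.normalizer (D : Set G)) b B) :
    Concl p M B D ↔ ∀ h, kh p B h = kh p b h := by
  rw [concl_iff hM hD hb, kd_iff_kh (blockDefect_br hM hD hb)]

/-- The conclusion of S4622 from the numbers of the characters of each height. -/
theorem concl_of_kh (hM : IsPModular p M) (hB : IsPBlock M B) (hD : IsDefectGroup p M B D)
    (H : ∀ b : Set (IrrCharacter (Subgroup.normalizer (D : Set G))),
      IsInducedBlock M (Subgroup.normalizer (D : Set G)) b B → ∀ h, kh p B h = kh p b h) :
    Concl p M B D := by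
  obtain ⟨b, hb⟩ := exists_br hM hB hD
  exact (concl_iff_kh hM hD hb).2 (H b hb)

/-- All heights zero: only the numbers of the characters matter. -/
theorem concl_of_height_zero (hM : IsPModular p M) (hD : IsDefectGroup p M B D)
    {b : Set (IrrCharacter (Subgroup.normalizer (D : Set G)))}
    (hb : IsInducedBlock M (Subgroup.normalizer (D : Set G)) b B)
    (h0 : ∀ χ ∈ B, blockHeight p B (χ : G → ℂ) = 0)
    (h0' : ∀ ψ ∈ b, blockHeight p b (ψ : Subgroup.normalizer (D : Set G) → ℂ) = 0)
    (hk : Nat.card B = Nat.card b) : Concl p M B D := by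
  rw [concl_iff_kh hM hD hb]
  intro h
  rcases Nat.eq_zero_or_pos h with rfl | hh
  · rw [kh_eq_card B h0, kh_eq_card b h0', hk]
  · rw [kh_eq_zero B, kh_eq_zero b]
    · intro χ hχ h1
      rw [h0' χ hχ] at h1
      omega
    · intro χ hχ h1
      rw [h0 χ hχ] at h1
      omega

/-- The number of the characters is the sum over the heights. -/
theorem card_eq_sum_kh (B : Set (IrrCharacter G)) (s : Finset ℕ)
    (hs : ∀ χ ∈ B, blockHeight p B (χ : G → ℂ) ∈ s) : Nat.card B = ∑ h ∈ s, kh p B h := by
  classical
  have := Characters.Core.finite_irr (G := G)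
  have := Fintype.ofFinite (IrrCharacter G)
  have h1 : Nat.card B = (Finset.univ.filter fun χ : IrrCharacter G => χ ∈ B).card := by
    rw [Nat.card_eq_fintype_card, ← Fintype.card_subtype]
  rw [h1, Finset.card_eq_sum_card_fiberwise (f := fun χ : IrrCharacter G => blockHeight p B (χ : G → ℂ)) (t := s)
    (fun χ hχ => hs χ (Finset.mem_filter.1 hχ).2)]
  refine Finset.sum_congr rfl fun h _ => ?_
  rw [kh, Nat.card_eq_fintype_card, Fintype.card_subtype, Finset.filter_filter]

end Cfsg.Agent.TID.Blk
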