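import Mathlib
import Cfsg.Agent.TID.BlkBasic
import Cfsg.Agent.H650.WSum
import Cfsg.Agent.S0924

/-!
# S4622, block part: the isometry of a TI defect group (helper31)

`D` a TI defect group of the block `B`, `N = N_G(D)`, `b` the block of `N` inducing `B`; `InT p D g`: the `p`-part of `g`
is a nontrivial element of `D`; `resB D b θ`: the `b`-part of the restriction of `θ` to `N`.

* `vanish_G`, `vanish_N`: the members of `B` (of `b`) vanish at the other `p`-singular elements;
* `resB_eq`, `resB_zero`: the second main theorem;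
* `ind_apply`, `ind_mem`, `ind_resB`, `resB_ind`, `inner_ind`: induction and `resB` are inverse isometries between the
  functions in the spans of `b` and of `B` which vanish on the `p`-regular elements;
* `count`: `k(B) + l(b) = k(b) + l(B)`.
-/

set_option autoImplicit false
set_option linter.unusedSectionVars false

namespace Cfsg.Agent.TID.Blk

open Cfsg Module Cfsg.Agent.H608.BlockRank Cfsg.Agent.Blocks.Basic Cfsg.Agent.Blocks.Local
open Cfsg.Agent.H608.TI (IsTI sg resN resN_apply resN_class reg_coe indL)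
open scoped ComplexConjugate

universe u

/-- The normalizer. -/
abbrev Nm {G : Type u} [Group G] (D : Subgroup G) : Subgroup G := Subgroup.normalizer (D : Set G)

/-- The `p`-part of `g` is a nontrivial element of `D`. -/
def InT (p : ℕ) {G : Type u} [Group G] (D : Subgroup G) (g : G) : Prop := ∃ z, IsPPart p g z ∧ z ∈ D ∧ z ≠ 1

section bp

variable {X : Type u} [Group X] [Finite X]

/-- The block part as a linear map. -/
noncomputable def bpL (b : Set (IrrCharacter X)) : (X → ℂ) →ₗ[ℂ] (X → ℂ) where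
  toFun θ := blockPart b θ
  map_add' θ φ := by
    classical
    have := Fintype.ofFinite X
    have := Characters.Core.finite_irr (G := X)
    have := Fintype.ofFinite (IrrCharacter X)
    rw [H650.blockPart_eq_sum_filter, H650.blockPart_eq_sum_filter, H650.blockPart_eq_sum_filter,
      ← Finset.sum_add_distrib]
    refine Finset.sum_congr rfl fun ξ _ => ?_
    rw [Characters.Core.classInner_add_left, add_smul]
  map_smul' c θ := by
    classical
    have := Fintype.ofFinite X
    have := Characters.Core.finite_irr (G := X)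
    have := Fintype.ofFinite (IrrCharacter X)
    rw [H650.blockPart_eq_sum_filter, H650.blockPart_eq_sum_filter, RingHom.id_apply, Finset.smul_sum]
    refine Finset.sum_congr rfl fun ξ _ => ?_
    rw [Characters.Core.classInner_smul_left, mul_smul]

theorem bpL_apply (b : Set (IrrCharacter X)) (θ : X → ℂ) : bpL b θ = blockPart b θ := rfl

theorem blockPart_mem_span (b : Set (IrrCharacter X)) (θ : X → ℂ) : blockPart b θ ∈ charSpan b := by
  classical
  have := Fintype.ofFinite X
  refine mem_charSpan_of_classInner (H650.isClassFunction_blockPart b θ) fun ψ hψ => ?_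
  rw [H650.classInner_blockPart, if_neg hψ]

theorem blockPart_of_mem {b : Set (IrrCharacter X)} {θ : X → ℂ} (hθ : θ ∈ charSpan b) : blockPart b θ = θ := by
  classical
  refine H650.eq_of_classInner (H650.isClassFunction_blockPart b θ) (charSpan_isClassFunction hθ) ?_
  intro _ ξ
  rw [H650.classInner_blockPart]
  split_ifs with h
  · rfl
  · exact (H608.TI.inner_zero h hθ).symm

/-- Inner products with the members of the span. -/
theorem inner_blockPart [Fintype X] {b : Set (IrrCharacter X)} {φ : X → ℂ} (hφ : φ ∈ charSpan b) (θ : X → ℂ) :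
    classInner (blockPart b θ) φ = classInner θ φ := by
  classical
  unfold charSpan at hφ
  induction hφ using Submodule.span_induction with
  | mem ψ h =>
    obtain ⟨ξ, hξ, rfl⟩ := h
    rw [H650.classInner_blockPart, if_pos hξ]
  | zero => rw [Characters.Core.classInner_zero_right, Characters.Core.classInner_zero_right]
  | add x y _ _ hx hy => rw [Characters.Core.classInner_add_right, Characters.Core.classInner_add_right, hx, hy]
  | smul c x _ hx => rw [Characters.Core.classInner_smul_right, Characters.Core.classInner_smul_right, hx]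

theorem inner_blockPart' [Fintype X] {b : Set (IrrCharacter X)} {φ : X → ℂ} (hφ : φ ∈ charSpan b) (θ : X → ℂ) :
    classInner φ (blockPart b θ) = classInner φ θ := by
  rw [← Characters.Core.classInner_conj_symm, inner_blockPart hφ, Characters.Core.classInner_conj_symm]

/-- A property of the members of `b` which passes to the span. -/
theorem span_zero {b : Set (IrrCharacter X)} {x : X} (h : ∀ ξ ∈ b, (ξ : X → ℂ) x = 0) {θ : X → ℂ}
    (hθ : θ ∈ charSpan b) : θ x = 0 := by
  unfold charSpan at hθ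
  induction hθ using Submodule.span_induction with
  | mem ψ h' =>
    obtain ⟨ξ, hξ, rfl⟩ := h'
    exact h ξ hξ
  | zero => rfl
  | add a c _ _ ha hc => rw [Pi.add_apply, ha, hc, add_zero]
  | smul c a _ ha => rw [Pi.smul_apply, ha, smul_zero]

theorem mem_span_of_mem {b : Set (IrrCharacter X)} {ξ : IrrCharacter X} (hξ : ξ ∈ b) : (ξ : X → ℂ) ∈ charSpan b :=
  Submodule.subset_span ⟨ξ, hξ, rfl⟩

theorem pReg_eq_zero_iff {p : ℕ} {θ : X → ℂ} : pReg p θ = 0 ↔ ∀ g, IsPRegular p g → θ g = 0 := by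
  constructor
  · intro h g hg
    rw [← pReg_of hg θ, h]; rfl
  · intro h
    funext g
    by_cases hg : IsPRegular p g
    · rw [pReg_of hg, h g hg]; rfl
    · rw [pReg_of_not hg]; rfl

end bp

variable {G : Type u} [Group G] [Finite G] {p : ℕ} [Fact p.Prime] {M : Ideal AlgInt}
  {B : Set (IrrCharacter G)} {D : Subgroup G}

/-- The `b`-part of the restriction to the normalizer. -/
noncomputable def resB (D : Subgroup G) (b : Set (IrrCharacter (Nm D))) : (G → ℂ) →ₗ[ℂ] (Nm D → ℂ) :=
  bpL b ∘ₗ resN D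

theorem resB_apply (D : Subgroup G) (b : Set (IrrCharacter (Nm D))) (θ : G → ℂ) :
    resB D b θ = blockPart b (resN D θ) := rfl

theorem resB_mem (D : Subgroup G) (b : Set (IrrCharacter (Nm D))) (θ : G → ℂ) : resB D b θ ∈ charSpan b :=
  blockPart_mem_span b _

theorem ppart_comm {g z : G} (h : IsPPart p g z) : g * z = z * g := by
  obtain ⟨y, hy, hc, -, -⟩ := h
  rw [← hy, mul_assoc, hc.eq.symm]

theorem InT.not_reg {g : G} (h : InT p D g) : ¬ IsPRegular p g := by
  obtain ⟨z, hz, -, hz1⟩ := h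
  intro hg
  exact hz1 (Blocks.PPart.isPPart_unique hz (Blocks.PPart.isPPart_of_not_dvd hg))

theorem InT.cent (hTI : IsTI D) {g : G} (h : InT p D g) {z : G} (hz : IsPPart p g z) :
    Subgroup.centralizer ({z} : Set G) ≤ Nm D := by
  obtain ⟨z', hz', h1, h2⟩ := h
  rw [Blocks.PPart.isPPart_unique hz hz']
  exact hTI.centralizer_le h1 h2

theorem InT.mem (hTI : IsTI D) {g : G} (h : InT p D g) : g ∈ Nm D := by
  obtain ⟨z, hz⟩ := Blocks.PPart.exists_isPPart p g
  apply h.cent hTI hz
  rw [Subgroup.mem_centralizer_singleton_iff]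
  exact ppart_comm hz

theorem InT.conj {g c : G} (h : InT p D g) (hc : c ∈ Nm D) : InT p D (c * g * c⁻¹) := by
  obtain ⟨z, hz, h1, h2⟩ := h
  refine ⟨c * z * c⁻¹, Blocks.PPart.isPPart_conj hz c, (Subgroup.mem_normalizer_iff.1 hc z).1 h1, fun h3 => h2 ?_⟩
  have : z = c⁻¹ * (c * z * c⁻¹) * c := by group
  rw [this, h3]; group

theorem InT.fusion (hTI : IsTI D) {g c : G} (h : InT p D g) (h' : InT p D (c⁻¹ * g * c)) : c ∈ Nm D := by
  obtain ⟨z, hz, h1, h2⟩ := h
  obtain ⟨z', hz', h1', -⟩ := h'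
  have h3 : IsPPart p (c⁻¹ * g * c) (c⁻¹ * z * c) := by
    have := Blocks.PPart.isPPart_conj hz c⁻¹
    rwa [inv_inv] at this
  rw [← Blocks.PPart.isPPart_unique h3 hz'] at h1'
  exact hTI.mem h1 h2 h1'

/-- The members of a block with defect group `D` vanish at the `p`-singular elements not conjugate into `InT`. -/
theorem vanish_G (hM : IsPModular p M) (hB : IsPBlock M B) (hD : IsDefectGroup p M B D) {θ : G → ℂ}
    (hθ : θ ∈ charSpan B) {g : G} (hg : ¬ IsPRegular p g) (hc : ∀ c : G, ¬ InT p D (c⁻¹ * g * c)) : θ g = 0 := by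
  have hMp := isPrime_of_isPModular hM
  refine span_zero (fun χ hχ => ?_) hθ
  obtain ⟨z, hz⟩ := Blocks.PPart.exists_isPPart p g
  refine Cfsg.Agent.S0924.result p M hM χ g z hz fun D' hD' hzD => ?_
  rw [← isPBlock_eq_blockOf hB hχ] at hD'
  obtain ⟨x, rfl⟩ := H609.TwoDefect.defectGroup_conj hM hB hD hD'
  obtain ⟨y, hy, hyz⟩ := hzD
  have hyz' : x * y * x⁻¹ = z := hyz
  refine hc x ⟨y, ?_, hy, ?_⟩
  · have := Blocks.PPart.isPPart_conj hz x⁻¹
    rwa [inv_inv, ← hyz', show x⁻¹ * (x * y * x⁻¹) * x = y by group] at this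
  · rintro rfl
    rw [mul_one, mul_inv_cancel] at hyz'
    obtain ⟨y', hy', -, -, hy''⟩ := hz
    rw [← hyz', one_mul] at hy'
    rw [← hy'] at hg
    exact hg hy''

theorem inT_coe {n : Nm D} : InT p (D.subgroupOf (Nm D)) n ↔ InT p D (n : G) := by
  constructor
  · rintro ⟨z, hz, h1, h2⟩
    exact ⟨z, Blocks.PPart.isPPart_coe hz, h1, fun h => h2 (Subtype.ext h)⟩
  · rintro ⟨z, hz, h1, h2⟩
    obtain ⟨z', hz'⟩ := Blocks.PPart.exists_isPPart p n
    have h3 := Blocks.PPart.isPPart_unique (Blocks.PPart.isPPart_coe hz') hz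
    refine ⟨z', hz', ?_, fun h => h2 ?_⟩
    · rw [Subgroup.mem_subgroupOf, h3]; exact h1
    · rw [← h3, h]; rfl

variable {b : Set (IrrCharacter (Nm D))}

/-- The members of `b` vanish at the `p`-singular elements outside of `InT`. -/
theorem vanish_N (hM : IsPModular p M) (hD : IsDefectGroup p M B D) (hb : IsInducedBlock M (Nm D) b B)
    {φ : Nm D → ℂ} (hφ : φ ∈ charSpan b) {n : Nm D} (hn : ¬ IsPRegular p n) (hT : ¬ InT p D (n : G)) : φ n = 0 := by
  refine vanish_G hM hb.1 (defect_br hM hD hb) hφ hn fun c hc => hT ?_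
  rw [inT_coe] at hc
  have h1 := hc.conj c.2
  have h2 : (c : G) * ((c⁻¹ * n * c : Nm D) : G) * (c : G)⁻¹ = n := by
    push_cast
    group
  rwa [h2] at h1

/-- The second main theorem: the characters outside of the induced block. -/
theorem part_zero (hM : IsPModular p M) (hTI : IsTI D) {b' : Set (IrrCharacter (Nm D))} {B' : Set (IrrCharacter G)}
    (hb' : IsInducedBlock M (Nm D) b' B') {θ : G → ℂ} (hθ : θ ∈ charSpan B'ᶜ) {n : Nm D} (hn : InT p D (n : G)) :
    resB D b' θ n = 0 := by
  classical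
  have := Fintype.ofFinite (Nm D)
  have hle : charSpan B'ᶜ ≤ LinearMap.ker ((LinearMap.proj n : (Nm D → ℂ) →ₗ[ℂ] ℂ) ∘ₗ resB D b') := by
    unfold charSpan
    rw [Submodule.span_le]
    rintro _ ⟨χ, hχ, rfl⟩
    change resB D b' (χ : G → ℂ) n = 0
    rw [resB_apply, Blocks.BlockPart.blockPart_eq_sum b' (resN_class _ (irr_isClassFunction χ.2)) n,
      ← finsum_eq_sum_of_fintype]
    exact Cfsg.Agent.S0922.result p M hM (Nm D) b' B' hb' n (fun z hz => hn.cent hTI hz) χ hχ
  exact hle hθ

theorem resB_zero (hM : IsPModular p M) (hTI : IsTI D) (hb : IsInducedBlock M (Nm D) b B)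
    {χ : IrrCharacter G} (hχ : χ ∉ B) {n : Nm D} (hn : InT p D (n : G)) : resB D b (χ : G → ℂ) n = 0 :=
  part_zero hM hTI hb (mem_span_of_mem (b := Bᶜ) hχ) hn

theorem charSpan_mono {X : Type u} [Group X] {A A' : Set (IrrCharacter X)} (h : A ⊆ A') : charSpan A ≤ charSpan A' :=
  Submodule.span_mono (Set.image_mono h)

/-- **The second main theorem** for the normalizer of a TI defect group. -/
theorem resB_eq (hM : IsPModular p M) (hD : IsDefectGroup p M B D) (hTI : IsTI D) (hb : IsInducedBlock M (Nm D) b B)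
    {θ : G → ℂ} (hθ : θ ∈ charSpan B) {n : Nm D} (hn : InT p D (n : G)) : resB D b θ n = θ n := by
  classical
  have hMp := isPrime_of_isPModular hM
  have hcl : IsClassFunction (Nm D) (resN D θ) := resN_class _ (charSpan_isClassFunction hθ)
  have h1 := H650.wSum_eq_finsum (M := M) (fun _ => 1) (resN D θ) n
  rw [H650.wSum_one M hcl, resN_apply] at h1
  rw [h1, finsum_mem_def, finsum_eq_single _ b]
  · rw [Set.indicator_of_mem (show b ∈ {f : Set (IrrCharacter (Nm D)) | IsPBlock M f} from hb.1), one_mul]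
    rfl
  · intro f hf
    by_cases h2 : IsPBlock M f
    · rw [Set.indicator_of_mem (show f ∈ {f : Set (IrrCharacter (Nm D)) | IsPBlock M f} from h2), one_mul]
      obtain ⟨B', hB'⟩ := Cfsg.Agent.S0919.result p M hM D (Nm D) (isPGroup_of_isDefectGroup hD)
        Subgroup.le_normalizer (Subgroup.centralizer_le_normalizer _) le_rfl f h2
      have h3 : B' ≠ B := by
        rintro rfl
        exact hf (uniq_br hM hD hB' hb)
      refine part_zero hM hTI hB' (charSpan_mono ?_ hθ) hn
      intro χ hχ hχ'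
      exact h3 (isPBlock_eq_of_mem hB'.2.1 hb.2.1 hχ' hχ)
    · rw [Set.indicator_of_notMem (show f ∉ {f : Set (IrrCharacter (Nm D)) | IsPBlock M f} from h2)]

theorem resB_reg (hM : IsPModular p M) (hb : IsPBlock M b) {θ : G → ℂ} (hθ : IsClassFunction G θ)
    (h0 : pReg p θ = 0) : pReg p (resB D b θ) = 0 := by
  rw [pReg_eq_zero_iff] at h0 ⊢
  intro n hn
  exact H650.blockPart_eq_zero_of_reg hM (resN_class _ hθ) (fun s hs => h0 s ((reg_coe s).2 hs)) hb hn

section ind

variable [Fintype G]

/-- Induction of functions supported on `InT`. -/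
theorem ind_apply (hTI : IsTI D) {φ : Nm D → ℂ} (hφ : IsClassFunction (Nm D) φ)
    (hs : ∀ n : Nm D, ¬ InT p D (n : G) → φ n = 0) {n : Nm D} (hn : InT p D (n : G)) :
    indFun (Nm D) φ n = φ n := by
  classical
  have h5 : ∀ x : G, extendByZero (Nm D) φ (x⁻¹ * (n : G) * x) = if x ∈ Nm D then φ n else 0 := by
    intro x
    split_ifs with hx
    · have hmem : x⁻¹ * (n : G) * x ∈ Nm D := mul_mem (mul_mem (inv_mem hx) n.2) hx
      rw [Characters.Brauer.extendByZero_mem _ _ hmem]
      have h6 := hφ n (⟨x, hx⟩⁻¹)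
      rw [inv_inv] at h6
      exact h6
    · by_cases hmem : x⁻¹ * (n : G) * x ∈ Nm D
      · rw [Characters.Brauer.extendByZero_mem _ _ hmem]
        exact hs _ fun h => hx (hn.fusion hTI h)
      · rw [Characters.Brauer.extendByZero_notMem _ _ hmem]
  have := Fintype.ofFinite (Nm D)
  rw [Characters.Brauer.indFun_apply, Finset.sum_congr rfl fun x _ => h5 x, ← Finset.sum_filter, Finset.sum_const,
    nsmul_eq_mul, Nat.card_eq_fintype_card, Fintype.card_subtype, ← mul_assoc, inv_mul_cancel₀, one_mul]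
  rw [← Fintype.card_subtype, ← Nat.card_eq_fintype_card]
  exact Nat.cast_ne_zero.2 Nat.card_pos.ne'

theorem ind_zero {φ : Nm D → ℂ} (hs : ∀ n : Nm D, ¬ InT p D (n : G) → φ n = 0) {g : G}
    (hg : ∀ c : G, ¬ InT p D (c⁻¹ * g * c)) : indFun (Nm D) φ g = 0 := by
  rw [Characters.Brauer.indFun_apply, Finset.sum_eq_zero, mul_zero]
  intro x _
  by_cases hmem : x⁻¹ * g * x ∈ Nm D
  · rw [Characters.Brauer.extendByZero_mem _ _ hmem]
    exact hs _ (hg x)
  · rw [Characters.Brauer.extendByZero_notMem _ _ hmem]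

omit [Fintype G] in
theorem supp_of (hM : IsPModular p M) (hD : IsDefectGroup p M B D) (hb : IsInducedBlock M (Nm D) b B)
    {φ : Nm D → ℂ} (hφ : φ ∈ charSpan b) (h0 : pReg p φ = 0) (n : Nm D) (hn : ¬ InT p D (n : G)) : φ n = 0 := by
  by_cases hr : IsPRegular p n
  · exact pReg_eq_zero_iff.1 h0 n hr
  · exact vanish_N hM hD hb hφ hr hn

theorem ind_reg {φ : Nm D → ℂ} (hs : ∀ n : Nm D, ¬ InT p D (n : G) → φ n = 0) : pReg p (indFun (Nm D) φ) = 0 := by
  rw [pReg_eq_zero_iff]
  intro g hg
  refine ind_zero hs fun c hc => hc.not_reg ?_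
  have := (H657.isPRegular_conj (p := p) g c⁻¹).2 hg
  rwa [inv_inv] at this

/-- Frobenius reciprocity. -/
theorem inner_ind [Fintype (Nm D)] {φ : Nm D → ℂ} (hφ : φ ∈ charSpan b) {θ : G → ℂ} (hθ : IsClassFunction G θ) :
    classInner (indFun (Nm D) φ) θ = classInner φ (resB D b θ) := by
  rw [Characters.Brauer.classInner_indFun _ _ _ _ hθ, resB_apply, inner_blockPart' hφ]
  rfl

theorem ind_mem (hM : IsPModular p M) (hD : IsDefectGroup p M B D) (hTI : IsTI D) (hb : IsInducedBlock M (Nm D) b B)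
    {φ : Nm D → ℂ} (hφ : φ ∈ charSpan b) (h0 : pReg p φ = 0) : indFun (Nm D) φ ∈ charSpan B := by
  have := Fintype.ofFinite (Nm D)
  refine mem_charSpan_of_classInner (Characters.Brauer.indFun_isClassFunction _ _) fun χ hχ => ?_
  rw [inner_ind hφ (irr_isClassFunction χ.2), Characters.Core.classInner_def, Finset.sum_eq_zero, mul_zero]
  intro n _
  by_cases hn : InT p D (n : G)
  · rw [resB_zero hM hTI hb hχ hn, map_zero, mul_zero]
  · rw [supp_of hM hD hb hφ h0 n hn, zero_mul]

theorem resB_ind (hM : IsPModular p M) (hD : IsDefectGroup p M B D) (hTI : IsTI D) (hb : IsInducedBlock M (Nm D) b B)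
    {φ : Nm D → ℂ} (hφ : φ ∈ charSpan b) (h0 : pReg p φ = 0) : resB D b (indFun (Nm D) φ) = φ := by
  have hs := supp_of hM hD hb hφ h0
  funext n
  by_cases hn : InT p D (n : G)
  · rw [resB_eq hM hD hTI hb (ind_mem hM hD hTI hb hφ h0) hn, ind_apply hTI (charSpan_isClassFunction hφ) hs hn]
  · rw [hs n hn]
    exact supp_of hM hD hb (resB_mem D b _)
      (resB_reg hM hb.1 (Characters.Brauer.indFun_isClassFunction _ _) (ind_reg hs)) n hn

theorem ind_resB (hM : IsPModular p M) (hD : IsDefectGroup p M B D) (hTI : IsTI D) (hb : IsInducedBlock M (Nm D) b B)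
    {θ : G → ℂ} (hθ : θ ∈ charSpan B) (h0 : pReg p θ = 0) : indFun (Nm D) (resB D b θ) = θ := by
  have hcl := charSpan_isClassFunction hθ
  have hs := supp_of hM hD hb (resB_mem D b θ) (resB_reg hM hb.1 hcl h0)
  funext g
  by_cases hg : ∃ c : G, InT p D (c⁻¹ * g * c)
  · obtain ⟨c, hc⟩ := hg
    have h1 := ind_apply hTI (charSpan_isClassFunction (resB_mem D b θ)) hs (n := ⟨_, hc.mem hTI⟩) hc
    rw [resB_eq hM hD hTI hb hθ (n := ⟨_, hc.mem hTI⟩) hc] at h1
    have h2 := Characters.Brauer.indFun_isClassFunction (Nm D) (resB D b θ) g c⁻¹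
    have h3 := hcl g c⁻¹
    rw [inv_inv] at h2 h3
    rw [← h2, ← h3]
    exact h1
  · push Not at hg
    rw [ind_zero hs hg]
    by_cases hr : IsPRegular p g
    · exact (pReg_eq_zero_iff.1 h0 g hr).symm
    · exact (vanish_G hM hb.2.1 hD hθ hr hg).symm

/-- The isometry. -/
theorem inner_ind_ind [Fintype (Nm D)] (hM : IsPModular p M) (hD : IsDefectGroup p M B D) (hTI : IsTI D)
    (hb : IsInducedBlock M (Nm D) b B) {φ φ' : Nm D → ℂ} (hφ : φ ∈ charSpan b) (hφ' : φ' ∈ charSpan b)
    (h0 : pReg p φ' = 0) : classInner (indFun (Nm D) φ) (indFun (Nm D) φ') = classInner φ φ' := by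
  rw [inner_ind hφ (Characters.Brauer.indFun_isClassFunction _ _), resB_ind hM hD hTI hb hφ' h0]

end ind

/-- **`k(B) - l(B) = k(b) - l(b)`** for a TI defect group. -/
theorem count (hM : IsPModular p M) (hD : IsDefectGroup p M B D) (hTI : IsTI D) (hb : IsInducedBlock M (Nm D) b B) :
    Nat.card B + blockRank p b = Nat.card b + blockRank p B := by
  classical
  have hMp := isPrime_of_isPModular hM
  have := Fintype.ofFinite G
  have hBU := isUnion_of_isPBlock hb.2.1
  have hbU := isUnion_of_isPBlock hb.1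
  suffices h : finrank ℂ ((charSpan B).map (sg p)) = finrank ℂ ((charSpan b).map (sg p)) by
    rw [H608.TI.card_eq hM hBU, H608.TI.card_eq hM hbU, h]
    omega
  apply le_antisymm
  · refine H608.TI.finrank_le_of_maps _ _ (resB D b) ?_ ?_
    · intro θ hθ
      obtain ⟨h1, h2⟩ := (H608.TI.mem_map_sg hM hBU).1 hθ
      exact (H608.TI.mem_map_sg hM hbU).2 ⟨resB_mem D b θ, resB_reg hM hb.1 (charSpan_isClassFunction h1) h2⟩
    · intro θ hθ h0
      obtain ⟨h1, h2⟩ := (H608.TI.mem_map_sg hM hBU).1 hθ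
      rw [← ind_resB hM hD hTI hb h1 h2, h0, Characters.Brauer.indFun_zero]
  · refine H608.TI.finrank_le_of_maps _ _ (indL (Nm D)) ?_ ?_
    · intro φ hφ
      obtain ⟨h1, h2⟩ := (H608.TI.mem_map_sg hM hbU).1 hφ
      exact (H608.TI.mem_map_sg hM hBU).2 ⟨ind_mem hM hD hTI hb h1 h2, ind_reg (supp_of hM hD hb h1 h2)⟩
    · intro φ hφ h0
      obtain ⟨h1, h2⟩ := (H608.TI.mem_map_sg hM hbU).1 hφ
      have h3 : indFun (Nm D) φ = 0 := h0
      rw [← resB_ind hM hD hTI hb h1 h2, h3, map_zero]

/-- `k(B) = k(b)` if and only if `l(B) = l(b)`. -/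
theorem card_eq_iff (hM : IsPModular p M) (hD : IsDefectGroup p M B D) (hTI : IsTI D)
    (hb : IsInducedBlock M (Nm D) b B) : Nat.card B = Nat.card b ↔ blockRank p B = blockRank p b := by
  have := count hM hD hTI hb
  omega

end Cfsg.Agent.TID.Blk
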