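import Mathlib
import Cfsg.Prelude.Def_Classification2
import Cfsg.Prelude.Def_LieTypeChar
import Cfsg.Prelude.Def_Local
import Cfsg.Prelude.Def_Transfer

/-!
# S4622 (project TID): the group theoretic interface (helper62)

No block theory here.  `AS p S D`: `X` is almost simple with socle `S`, `D` is a radical TI `p`-subgroup of rank at least two.
`Out p S D`: the conclusion of the case analysis.  `KRow Φ`: `AS → Out` for the simple groups of type `Φ`.
See `notes/TID/plan.md`.
-/

set_option autoImplicit false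

namespace Cfsg.Agent.TID

open Cfsg
open scoped Pointwise

universe u

/-- the TI property (the same text as `H608.TI.IsTI` and as the hypothesis of S4622) -/
def TI {X : Type u} [Group X] (D : Subgroup X) : Prop :=
  ∀ g : X, g ∉ Subgroup.normalizer (D : Set X) → D ⊓ (MulAut.conj g • D) = ⊥

/-- `D` contains an elementary abelian subgroup of order `p ^ 2` -/
def Rk2 (p : ℕ) {X : Type u} [Group X] (D : Subgroup X) : Prop :=
  ∃ V : Subgroup X, V ≤ D ∧ IsElementaryAbelian p V ∧ Nat.card V = p ^ 2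

/-- `D` is radical: it contains every `p`-subgroup normalized by `N(D)` -/
def Rad (p : ℕ) {X : Type u} [Group X] (D : Subgroup X) : Prop :=
  ∀ Q : Subgroup X, IsPGroup p Q → Subgroup.normalizer (D : Set X) ≤ Subgroup.normalizer (Q : Set X) → Q ≤ D

/-- a radical TI `p`-subgroup of rank at least two -/
structure Loc (p : ℕ) {X : Type u} [Group X] (D : Subgroup X) : Prop where
  pgrp : IsPGroup p D
  ti : TI D
  rk : Rk2 p D
  rad : Rad p D

/-- `X` is almost simple with socle `S` -/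
structure Soc {X : Type u} [Group X] (S : Subgroup X) : Prop where
  normal : S.Normal
  simple : IsSimpleGroup S
  nonab : ¬ IsMulCommutative S
  cent : Subgroup.centralizer (S : Set X) = ⊥

/-- the situation of the group theoretic rows -/
structure AS (p : ℕ) {X : Type u} [Group X] (S D : Subgroup X) : Prop where
  soc : Soc S
  loc : Loc p D

/-- `C_S(D)` is a `p`-group -/
def CenP (p : ℕ) {X : Type u} [Group X] (S D : Subgroup X) : Prop :=
  IsPGroup p ↥(S ⊓ Subgroup.centralizer (D : Set X))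

/-- `D ∩ S` is a Sylow `p`-subgroup of `S` (for a `p`-subgroup `D`) -/
def SylIn (p : ℕ) {X : Type u} [Group X] (S D : Subgroup X) : Prop := ¬ p ∣ D.relIndex S

/-- the conclusion of the group theoretic rows -/
def Out (p : ℕ) {X : Type u} [Group X] (S D : Subgroup X) : Prop :=
  D ⊓ S ≠ ⊥ ∧ (CenP p S D ∨ SylIn p S D ∨ (p = 2 ∧ Nat.card D = 4) ∨ (p = 3 ∧ (Spor.IsoON S ∨ Spor.IsoSuz S)))

/-- a group theoretic row -/
def KRow (Φ : ℕ → (S : Type u) → [Group S] → Prop) : Prop :=
  ∀ (p : ℕ) [Fact p.Prime] (X : Type u) [Group X] [Finite X] (S D : Subgroup X), AS p S D → Φ p S → Out p S D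

/-- all simple groups -/
def KAll : Prop := KRow.{u} (fun _ _ _ => True)

/-- alternating groups -/
def KAlt : Prop := KRow.{u} (fun _ S _ => IsAlternating S)

/-- Lie type, defining characteristic -/
def KDef : Prop := KRow.{u} (fun p S _ => IsLieTypeChar p S)

/-- Lie type, `p` odd, `p ≠ r`, and `p ≥ 7` or `r` odd (S2187) -/
def KBig : Prop := KRow.{u} (fun p S _ => p ≠ 2 ∧ ∃ r : ℕ, r.Prime ∧ p ≠ r ∧ (7 ≤ p ∨ r ≠ 2) ∧ IsLieTypeChar r S)

/-- Lie type in characteristic two, `p` odd (only `p = 3, 5` are needed, see `KEven35`) -/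
def KEven35 : Prop := KRow.{u} (fun p S _ => (p = 3 ∨ p = 5) ∧ IsLieTypeChar 2 S)

/-- Lie type in odd characteristic, `p = 2` -/
def KTwo : Prop := KRow.{u} (fun p S _ => p = 2 ∧ ∃ r : ℕ, r.Prime ∧ r ≠ 2 ∧ IsLieTypeChar r S)

/-- sporadic groups and the Tits group, `p = 2` -/
def KSporTwo : Prop := KRow.{u} (fun p S _ => p = 2 ∧ (Lie.IsoTits S ∨ IsSporadicGroup S))

/-- sporadic groups and the Tits group, `p` odd -/
def KSporOdd : Prop := KRow.{u} (fun p S _ => p ≠ 2 ∧ (Lie.IsoTits S ∨ IsSporadicGroup S))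

/-- a row for one sporadic group and one prime, e.g. `KOne 3 (fun S _ => Spor.IsoTh S)` -/
def KOne (p : ℕ) (Φ : (S : Type u) → [Group S] → Prop) : Prop := KRow.{u} (fun q S _ => q = p ∧ Φ S)

/-- **Struct**: `D` meets a component -/
def Struct : Prop :=
  KAll.{u} → ∀ (p : ℕ) [Fact p.Prime] (G : Type u) [Group G] [Finite G] (D : Subgroup G), pCore p G = ⊥ → Loc p D →
    ∃ L : Subgroup G, IsComponent L ∧ D ⊓ L ≠ ⊥

/-- `D` is a Sylow `p`-subgroup of the centralizer of an element of order prime to `p` -/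
def DefY (p : ℕ) {X : Type u} [Group X] (D : Subgroup X) : Prop :=
  ∃ y : X, ¬ p ∣ orderOf y ∧ D ≤ Subgroup.centralizer ({y} : Set X) ∧
    ¬ p ∣ D.relIndex (Subgroup.centralizer ({y} : Set X))

/-- **Lemma A and KC**: `D` is a Sylow `p`-subgroup of `X` -/
def ToSylow : Prop :=
  ∀ (p : ℕ) [Fact p.Prime] (X : Type u) [Group X] [Finite X] (S D : Subgroup X), AS p S D → DefY p D → D ⊓ S ≠ ⊥ →
    (CenP p S D ∨ SylIn p S D) → ¬ p ∣ D.index

/-- the types of the socle for a Sylow subgroup `D`; `a` says that `D ≤ S` -/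
inductive SylType (p : ℕ) (a : Prop) (S : Type u) [Group S] : Prop
  | l2 (ha : a) (F : Type) [Field F] [Fintype F] (hF : CharP F p)
      (e : Nonempty (S ≃* Matrix.ProjectiveSpecialLinearGroup (Fin 2) F))
  | u3 (ha : a) (F : Type) [Field F] [Fintype F] (n : ℕ) (hn : 1 ≤ n) (hF : Fintype.card F = (p ^ n) ^ 2)
      (e : Nonempty (S ≃* PSU 3 F (p ^ n)))
  | sz (ha : a) (hp : p = 2) (h : Lie.IsoSuzuki S)
  | ree (ha : a) (hp : p = 3) (h : Lie.IsoRee S)
  | mcl (ha : a) (hp : p = 5) (h : Spor.IsoMcL S)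
  | j4 (ha : a) (hp : p = 11) (h : Spor.IsoJ4 S)
  | sz32 (ha : ¬ a) (hp : p = 5) (F : Type) [Field F] [Fintype F] (hF : Fintype.card F = 32)
      (e : Nonempty (S ≃* ↥(Lie.Sz F 8)))
  | l28 (ha : ¬ a) (hp : p = 3) (F : Type) [Field F] [Fintype F] (hF : Fintype.card F = 8)
      (e : Nonempty (S ≃* Matrix.ProjectiveSpecialLinearGroup (Fin 2) F))

/-- **the list for a Sylow subgroup** -/
def SylList : Prop :=
  ∀ (p : ℕ) [Fact p.Prime] (X : Type u) [Group X] [Finite X] (S D : Subgroup X), AS p S D → ¬ p ∣ D.index →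
    Nat.card D = p ^ 2 ∨ SylType p (D ≤ S) S

end Cfsg.Agent.TID
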