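import Mathlib
import Cfsg.Agent.TID.GDefs
import Cfsg.Agent.TID.BlkIso

/-!
# S4622 (project TID): the block theoretic interface (helper62)

`Hyp p M B D`: `B` is a block with TI defect group `D`; the goal is `Blk.Concl p M B D`.
`Cen p S`: `Z = O_{p'}(G)` is central and `G / Z` is almost simple with socle `S`.  See `notes/TID/plan.md`.
-/

set_option autoImplicit false

namespace Cfsg.Agent.TID

open Cfsg
open Cfsg.Agent.TID.Blk (Concl)

universe u

/-- a block with a TI defect group -/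
structure Hyp (p : ℕ) (M : Ideal AlgInt) {G : Type u} [Group G] (B : Set (IrrCharacter G)) (D : Subgroup G) : Prop where
  modu : IsPModular p M
  blk : IsPBlock M B
  dfc : IsDefectGroup p M B D
  ti : TI D

/-- the reduced situation -/
structure Cen (p : ℕ) {G : Type u} [Group G] (S : Subgroup (G ⧸ pPrimeCore p G)) : Prop where
  cen : pPrimeCore p G ≤ Subgroup.center G
  soc : Soc S

/-- the image in `G / O_{p'}(G)` -/
def img (p : ℕ) {G : Type u} [Group G] (D : Subgroup G) : Subgroup (G ⧸ pPrimeCore p G) :=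
  D.map (QuotientGroup.mk' (pPrimeCore p G))

/-- rank one: cyclic or generalized quaternion defect groups -/
def BoxSmall : Prop :=
  ∀ (p : ℕ) [Fact p.Prime] (G : Type u) [Group G] [Finite G] (M : Ideal AlgInt) (B : Set (IrrCharacter G))
    (D : Subgroup G), Hyp p M B D → D ≠ ⊥ → ¬ Rk2 p D → Concl p M B D

/-- defect groups are radical -/
def BoxRad : Prop :=
  ∀ (p : ℕ) [Fact p.Prime] (G : Type u) [Group G] [Finite G] (M : Ideal AlgInt) (B : Set (IrrCharacter G))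
    (D : Subgroup G), Hyp p M B D → IsPGroup p D ∧ Rad p D ∧ DefY p D

/-- the passage to `G / Z` -/
def BoxQuot : Prop :=
  ∀ (p : ℕ) [Fact p.Prime] (G : Type u) [Group G] [Finite G] (D : Subgroup G), pPrimeCore p G ≤ Subgroup.center G →
    Loc p D → DefY p D → Loc p (img p D) ∧ DefY p (img p D) ∧ Nat.card (img p D) = Nat.card D ∧
      (¬ p ∣ (img p D).index → ¬ p ∣ D.index)

/-- the theorem in the reduced situation -/
def CenAll : Prop :=
  ∀ (p : ℕ) [Fact p.Prime] (G : Type u) [Group G] [Finite G] (S : Subgroup (G ⧸ pPrimeCore p G)) (M : Ideal AlgInt)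
    (B : Set (IrrCharacter G)) (D : Subgroup G), Cen p S → Hyp p M B D → Rk2 p D → Concl p M B D

/-- **the reduction** (Fong-Reynolds twice, then the second Fong reduction) -/
def Red : Prop :=
  CenAll.{u} → ∀ (p : ℕ) [Fact p.Prime] (G : Type u) [Group G] [Finite G] (M : Ideal AlgInt) (B : Set (IrrCharacter G))
    (D : Subgroup G), pCore p G = ⊥ → Hyp p M B D → Rk2 p D → (∃ L : Subgroup G, IsComponent L ∧ D ⊓ L ≠ ⊥) →
    Concl p M B D

/-- a row with a Sylow defect group; the first argument of `Φ` says that `D Z / Z ≤ S` -/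
def SRow (Φ : ℕ → Prop → (S : Type u) → [Group S] → Prop) : Prop :=
  ∀ (p : ℕ) [Fact p.Prime] (G : Type u) [Group G] [Finite G] (S : Subgroup (G ⧸ pPrimeCore p G)) (M : Ideal AlgInt)
    (B : Set (IrrCharacter G)) (P : Sylow p G), Cen p S → Hyp p M B (P : Subgroup G) → Rk2 p (P : Subgroup G) →
    Φ p (img p (P : Subgroup G) ≤ S) S → Concl p M B (P : Subgroup G)

/-- Sylow defect group of order `p ^ 2` (S4819 and `Blk.concl_sq`) -/
def SSq : Prop :=
  ∀ (p : ℕ) [Fact p.Prime] (G : Type u) [Group G] [Finite G] (M : Ideal AlgInt) (B : Set (IrrCharacter G))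
    (P : Sylow p G), Hyp p M B (P : Subgroup G) → Nat.card (P : Subgroup G) = p ^ 2 → Concl p M B (P : Subgroup G)

/-- `PSL₂(q)` -/
def SL2 : Prop := SRow.{u} (fun p a S _ => a ∧ ∃ (F : Type) (_ : Field F) (_ : Fintype F), CharP F p ∧
  Nonempty (S ≃* Matrix.ProjectiveSpecialLinearGroup (Fin 2) F))

/-- `PSU₃(q)` -/
def SU3 : Prop := SRow.{u} (fun p a S _ => a ∧ ∃ (F : Type) (_ : Field F) (_ : Fintype F) (n : ℕ), 1 ≤ n ∧
  Fintype.card F = (p ^ n) ^ 2 ∧ Nonempty (S ≃* PSU 3 F (p ^ n)))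

/-- `Sz(q)` -/
def SSz : Prop := SRow.{u} (fun p a S _ => a ∧ p = 2 ∧ Lie.IsoSuzuki S)

/-- `²G₂(q)` -/
def SRee : Prop := SRow.{u} (fun p a S _ => a ∧ p = 3 ∧ Lie.IsoRee S)

/-- `McL`, `p = 5` -/
def SMcL : Prop := SRow.{u} (fun p a S _ => a ∧ p = 5 ∧ Spor.IsoMcL S)

/-- `J₄`, `p = 11` -/
def SJ4 : Prop := SRow.{u} (fun p a S _ => a ∧ p = 11 ∧ Spor.IsoJ4 S)

/-- `Sz(32) : 5` -/
def SSz32 : Prop := SRow.{u} (fun p a S _ => ¬ a ∧ p = 5 ∧ ∃ (F : Type) (_ : Field F) (_ : Fintype F),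
  Fintype.card F = 32 ∧ Nonempty (S ≃* ↥(Lie.Sz F 8)))

/-- `PSL₂(8) : 3` -/
def SL28 : Prop := SRow.{u} (fun p a S _ => ¬ a ∧ p = 3 ∧ ∃ (F : Type) (_ : Field F) (_ : Fintype F),
  Fintype.card F = 8 ∧ Nonempty (S ≃* Matrix.ProjectiveSpecialLinearGroup (Fin 2) F))

/-- a row with a defect group which is not a Sylow subgroup, `p = 3` -/
def NRow (Φ : (S : Type u) → [Group S] → Prop) : Prop :=
  ∀ (G : Type u) [Group G] [Finite G] (S : Subgroup (G ⧸ pPrimeCore 3 G)) (M : Ideal AlgInt)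
    (B : Set (IrrCharacter G)) (D : Subgroup G), Cen 3 S → Hyp 3 M B D → AS 3 S (img 3 D) → DefY 3 (img 3 D) →
    ¬ CenP 3 S (img 3 D) → ¬ SylIn 3 S (img 3 D) → Φ S → Concl 3 M B D

/-- `O'N`, `|D| = 9` -/
def NON : Prop := NRow.{u} (fun S _ => Spor.IsoON S)

/-- `Suz`, `|D| = 9` -/
def NSuz : Prop := NRow.{u} (fun S _ => Spor.IsoSuz S)

end Cfsg.Agent.TID
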