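import Mathlib
import Cfsg.Agent.TID.BlkIso
import Cfsg.Agent.H723.TI.Cyc
import Cfsg.Agent.H658.CyclicRoot
import Cfsg.Agent.H649.DefectPair
import Cfsg.Agent.H649.Transport
import Cfsg.Agent.LFourB.ProdAut
import Cfsg.Agent.S4635
import Cfsg.Agent.S4638
import Cfsg.Agent.S4690
import Cfsg.Agent.S4696
import Cfsg.Agent.S4710
import Cfsg.Agent.S0972

/-!
# S4622, block part: the easy cases (helper31)

* `concl_cyclic`: `D` cyclic and TI; `concl_klein`: `D` a Klein four group;
* `concl_sq`: `|D| = p ^ 2` and `l(B) = l(b)`; `concl_ab`: `D` abelian, heights zero in `B` and `l(B) = l(b)`;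
* `concl_nil`: `D` TI and the `p`-regular elements of `N_G(D)` centralize `D`;
* `concl_quat_ge`: `D` TI, generalized quaternion of order at least 16.
-/

set_option autoImplicit false
set_option linter.unusedSectionVars false

namespace Cfsg.Agent.TID.Blk

open Cfsg Cfsg.Agent.Blocks.Basic Cfsg.Agent.Blocks.Local
open Cfsg.Agent.H608.TI (IsTI)

universe u

variable {G : Type u} [Group G] [Finite G] {p : ℕ} [Fact p.Prime] {M : Ideal AlgInt}
  {B : Set (IrrCharacter G)} {D : Subgroup G}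

/-- `N_G(Z) ≤ N_G(D)` for `1 ≠ Z ≤ D`. -/
theorem norm_le (hTI : IsTI D) {Z : Subgroup G} (hZ : Z ≤ D) (hZ1 : Z ≠ ⊥) : Nm Z ≤ Nm D := by
  intro g hg
  obtain ⟨⟨z, hz⟩, hz1⟩ := (Subgroup.ne_bot_iff_exists_ne_one.1 hZ1)
  refine hTI.mem (hZ hz) (fun h => hz1 (Subtype.ext h)) (hZ ?_)
  have h1 := (Subgroup.mem_normalizer_iff.1 (inv_mem hg) z).1 hz
  rwa [inv_inv] at h1

/-- The heights of the Brauer correspondent of a block with abelian defect group. -/
theorem height_br (hM : IsPModular p M) (hD : IsDefectGroup p M B D) (hab : ∀ x ∈ D, ∀ y ∈ D, x * y = y * x)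
    {b : Set (IrrCharacter (Nm D))} (hb : IsInducedBlock M (Nm D) b B) :
    ∀ ψ ∈ b, blockHeight p b (ψ : Nm D → ℂ) = 0 := by
  have hN : (D.subgroupOf (Nm D)).Normal := Subgroup.normal_in_normalizer
  refine (Cfsg.Agent.S0972.result p M hM b hb.1 (D.subgroupOf (Nm D)) (defect_br hM hD hb)).1 ?_
  intro x hx y hy
  exact Subtype.ext (hab x hx y hy)

/-- Abelian TI defect groups. -/
theorem concl_ab (hM : IsPModular p M) (hD : IsDefectGroup p M B D) (hTI : IsTI D)
    (hab : ∀ x ∈ D, ∀ y ∈ D, x * y = y * x) (h0 : ∀ χ ∈ B, blockHeight p B (χ : G → ℂ) = 0)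
    {b : Set (IrrCharacter (Nm D))} (hb : IsInducedBlock M (Nm D) b B) (hl : blockRank p B = blockRank p b) :
    Concl p M B D :=
  concl_of_height_zero hM hD hb h0 (height_br hM hD hab hb) ((card_eq_iff hM hD hTI hb).2 hl)

/-- Blocks of defect at most two have heights zero. -/
theorem height_small {X : Type u} [Group X] [Finite X] (hM : IsPModular p M) {A : Set (IrrCharacter X)}
    (hA : IsPBlock M A) (h2 : blockDefect p A ≤ 2) : ∀ χ ∈ A, blockHeight p A (χ : X → ℂ) = 0 := by
  intro χ hχ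
  have h1 := (Cfsg.Agent.S4710.result p M hM A hA _ rfl).2 χ hχ
  omega

theorem defect_of_card (hM : IsPModular p M) (hB : IsPBlock M B) (hD : IsDefectGroup p M B D) {a : ℕ}
    (ha : Nat.card D = p ^ a) : blockDefect p B = a := by
  have h1 := Cfsg.Agent.S0908.result p M hM B hB D hD
  rw [ha] at h1
  exact (Nat.pow_right_injective (Fact.out : p.Prime).two_le h1).symm

/-- Defect two, the numbers of the characters. -/
theorem concl_sq_card (hM : IsPModular p M) (hD : IsDefectGroup p M B D) (hc : Nat.card D = p ^ 2)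
    {b : Set (IrrCharacter (Nm D))} (hb : IsInducedBlock M (Nm D) b B) (hk : Nat.card B = Nat.card b) :
    Concl p M B D := by
  have h1 := defect_of_card hM hb.2.1 hD hc
  have h2 := blockDefect_br hM hD hb
  exact concl_of_height_zero hM hD hb (height_small hM hb.2.1 (by omega)) (height_small hM hb.1 (by omega)) hk

/-- Defect two, the ranks. -/
theorem concl_sq (hM : IsPModular p M) (hD : IsDefectGroup p M B D) (hTI : IsTI D) (hc : Nat.card D = p ^ 2)
    {b : Set (IrrCharacter (Nm D))} (hb : IsInducedBlock M (Nm D) b B) (hl : blockRank p B = blockRank p b) :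
    Concl p M B D :=
  concl_sq_card hM hD hc hb ((card_eq_iff hM hD hTI hb).2 hl)

/-- **Klein four defect groups.** -/
theorem concl_klein {M : Ideal AlgInt} (hM : IsPModular 2 M) (hB : IsPBlock M B) (hD : IsDefectGroup 2 M B D)
    (hV : IsKleinFour D) : Concl 2 M B D := by
  have : Fact (Nat.Prime 2) := ⟨Nat.prime_two⟩
  obtain ⟨b, hb⟩ := exists_br hM hB hD
  obtain ⟨I, ε, h1, -⟩ := Cfsg.Agent.S4638.result M hM B hB D hD hV b (defect_br hM hD hb) hb
  refine concl_sq_card hM hD (by rw [hV.card_four]; norm_num) hb ?_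
  exact (Nat.card_congr h1.equiv).symm

/-- The heights in a block with cyclic defect group. -/
theorem height_cyclic (hM : IsPModular p M) (hB : IsPBlock M B) (hD : IsDefectGroup p M B D) (hc : IsCyclic D) :
    ∀ χ ∈ B, blockHeight p B (χ : G → ℂ) = 0 := by
  have hcard := Cfsg.Agent.S0908.result p M hM B hB D hD
  by_cases ha : 1 ≤ blockDefect p B
  · have hab : IsMulCommutative D := ⟨⟨fun x y => (IsCyclic.commGroup (α := D)).mul_comm x y⟩⟩
    obtain ⟨b, hb⟩ := H658.exists_root_centralizer hM hab hD hB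
    obtain ⟨T, hT⟩ := H658.exists_stabilizer hM D hb.1
    exact (Cfsg.Agent.S4696.result p M hM D hc _ ha hcard B hB hD b hb T hT _ rfl).2.1
  · exact height_small hM hB (by omega)

/-- **Cyclic TI defect groups.** -/
theorem concl_cyclic (hM : IsPModular p M) (hB : IsPBlock M B) (hD : IsDefectGroup p M B D) (hD1 : D ≠ ⊥)
    (hTI : IsTI D) (hc : IsCyclic D) : Concl p M B D := by
  have hp : p.Prime := Fact.out
  obtain ⟨b, hb⟩ := exists_br hM hB hD
  obtain ⟨x, hx⟩ : ∃ x : D, orderOf x = p := by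
    apply exists_prime_orderOf_dvd_card'
    have h1 : Nat.card D ≠ 1 := fun h => hD1 (Subgroup.card_eq_one.mp h)
    obtain ⟨n, hn⟩ := IsPGroup.iff_card.mp (isPGroup_of_isDefectGroup hD)
    rw [hn]
    apply dvd_pow_self
    rintro rfl
    exact h1 (by simpa using hn)
  have hxZ : Nat.card (Subgroup.zpowers (x : G)) = p := by
    rw [Nat.card_zpowers, Subgroup.orderOf_coe, hx]
  have hZ : Subgroup.zpowers (x : G) ≤ D := by
    rw [Subgroup.zpowers_le]; exact x.2
  have hZ1 : Subgroup.zpowers (x : G) ≠ ⊥ := by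
    intro h
    rw [h, Subgroup.card_bot] at hxZ
    exact hp.one_lt.ne hxZ
  have hN : Nm D = Subgroup.normalizer ((Subgroup.zpowers (x : G)) : Set G) :=
    le_antisymm (H723.TI.normalizer_le_of_cyclic hc hZ hp.pos hxZ) (norm_le hTI hZ hZ1)
  have hk := (Cfsg.Agent.S4635.result p M hM B hB D hD hD1 hc _ hZ hxZ _ hN b (defect_br hM hD hb) hb).1
  refine concl_of_height_zero hM hD hb (height_cyclic hM hB hD hc) (height_br hM hD ?_ hb) hk.symm
  intro x hx y hy
  have h1 := (IsCyclic.commGroup (α := D)).mul_comm ⟨x, hx⟩ ⟨y, hy⟩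
  exact congrArg Subtype.val h1

/-- A block with a TI defect group whose `p`-regular normalizing elements centralize it is nilpotent. -/
theorem nilpotent_of (hM : IsPModular p M) (hB : IsPBlock M B) (hD : IsDefectGroup p M B D) (hTI : IsTI D)
    (hreg : ∀ x ∈ Nm D, IsPRegular p x → x ∈ Subgroup.centralizer (D : Set G)) : IsNilpotentBlock p M B := by
  refine ⟨hB, fun Q e hQ x hx _ hxr => ?_⟩
  obtain ⟨D', hD', hQD⟩ := H649.exists_defect_ge hM hQ
  obtain ⟨c, rfl⟩ := H609.TwoDefect.defectGroup_conj hM hB hD hD'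
  have hmem : ∀ q ∈ Q, c⁻¹ * q * c ∈ D := by
    intro q hq
    obtain ⟨y, hy, hyq⟩ := hQD hq
    have h1 : c * y * c⁻¹ = q := hyq
    rw [← h1, show c⁻¹ * (c * y * c⁻¹) * c = y by group]
    exact hy
  rw [Subgroup.mem_centralizer_iff]
  intro q hq
  by_cases hq1 : q = 1
  · rw [hq1, one_mul, mul_one]
  have h1 : c⁻¹ * x * c ∈ Nm D := by
    refine hTI.mem (hmem q hq) (fun h => hq1 ?_) ?_
    · have : q = c * (c⁻¹ * q * c) * c⁻¹ := by group
      rw [this, h]; group
    · have h2 := (Subgroup.mem_normalizer_iff.1 (inv_mem hx) q).1 hq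
      rw [inv_inv] at h2
      have h3 := hmem _ h2
      rwa [show c⁻¹ * (x⁻¹ * q * x) * c = (c⁻¹ * x * c)⁻¹ * (c⁻¹ * q * c) * (c⁻¹ * x * c) by group] at h3
  have h2 : IsPRegular p (c⁻¹ * x * c) := by
    have := (H657.isPRegular_conj (p := p) x c⁻¹).2 hxr
    rwa [inv_inv] at this
  have h3 := Subgroup.mem_centralizer_iff.1 (hreg _ h1 h2) _ (hmem q hq)
  calc q * x = c * ((c⁻¹ * q * c) * (c⁻¹ * x * c)) * c⁻¹ := by group
    _ = x * q := by rw [h3]; group

omit [Finite G] in
theorem isTI_normal {X : Type u} [Group X] (P : Subgroup X) [hP : P.Normal] : IsTI P := by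
  intro g hg
  rw [Subgroup.normalizer_eq_top_iff.2 hP] at hg
  exact absurd (Subgroup.mem_top g) hg

/-- The numbers of the characters of a nilpotent block. -/
theorem kh_nilpotent (hM : IsPModular p M) (hB : IsNilpotentBlock p M B) (hD : IsDefectGroup p M B D) (h : ℕ) :
    kh p B h = Nat.card {l : IrrCharacter D // (charDegree (l : D → ℂ)).factorization p = h} := by
  have := Fintype.ofFinite G
  obtain ⟨Φ, hΦ⟩ := Cfsg.Agent.S4690.result p M hM B hB D hD
  refine Nat.card_congr ((Equiv.subtypeSubtypeEquivSubtypeInter (fun χ => χ ∈ B)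
    (fun χ : IrrCharacter G => blockHeight p B (χ : G → ℂ) = h)).symm.trans (Φ.subtypeEquiv fun χ => ?_))
  rw [hΦ]

/-- Both blocks nilpotent. -/
theorem concl_of_nilpotent (hM : IsPModular p M) (hB : IsNilpotentBlock p M B) (hD : IsDefectGroup p M B D)
    {b : Set (IrrCharacter (Nm D))} (hb : IsInducedBlock M (Nm D) b B) (hbn : IsNilpotentBlock p M b) :
    Concl p M B D := by
  rw [concl_iff_kh hM hD hb]
  intro h
  rw [kh_nilpotent hM hB hD, kh_nilpotent hM hbn (defect_br hM hD hb)]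
  symm
  refine Nat.card_congr ((H649.irrEquiv (Subgroup.subgroupOfEquivOfLe Subgroup.le_normalizer)).subtypeEquiv
    fun l => ?_)
  rw [H649.irrEquiv_apply, H649.charDegree_irrMap]

/-- **The nilpotent case.** -/
theorem concl_nil (hM : IsPModular p M) (hB : IsPBlock M B) (hD : IsDefectGroup p M B D) (hTI : IsTI D)
    (hreg : ∀ x ∈ Nm D, IsPRegular p x → x ∈ Subgroup.centralizer (D : Set G)) : Concl p M B D := by
  obtain ⟨b, hb⟩ := exists_br hM hB hD
  have hN : (D.subgroupOf (Nm D)).Normal := Subgroup.normal_in_normalizer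
  refine concl_of_nilpotent hM (nilpotent_of hM hB hD hTI hreg) hD hb
    (nilpotent_of hM hb.1 (defect_br hM hD hb) (isTI_normal _) fun x _ hx => ?_)
  have h1 := hreg x x.2 ((H608.TI.reg_coe x).2 hx)
  rw [Subgroup.mem_centralizer_iff] at h1 ⊢
  intro y hy
  exact Subtype.ext (h1 y hy)

/-- **Generalized quaternion TI defect groups of order at least 16.** -/
theorem concl_quat_ge {M : Ideal AlgInt} (hM : IsPModular 2 M) (hB : IsPBlock M B) (hD : IsDefectGroup 2 M B D)
    (hTI : IsTI D) {k : ℕ} (hk : 2 ≤ k) (e : D ≃* QuaternionGroup (2 ^ k)) : Concl 2 M B D := by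
  have : Fact (Nat.Prime 2) := ⟨Nat.prime_two⟩
  refine concl_nil hM hB hD hTI fun y hy hyo => ?_
  have h1 : D.normalizerMonoidHom ⟨y, hy⟩ = 1 := by
    refine LFourB.ProdAut.eq_one_of_odd' hk e _ (n := orderOf y) ?_ ?_
    · exact Nat.odd_iff.2 (by unfold IsPRegular at hyo; omega)
    · rw [← map_pow]
      have : (⟨y, hy⟩ : Nm D) ^ orderOf y = 1 := Subtype.ext (pow_orderOf_eq_one y)
      rw [this, map_one]
  have h2 : (⟨y, hy⟩ : Nm D) ∈ D.normalizerMonoidHom.ker := h1
  rw [Subgroup.normalizerMonoidHom_ker] at h2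
  exact h2

end Cfsg.Agent.TID.Blk
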