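import Mathlib
import Cfsg.Agent.TID.Defs
import Cfsg.Agent.TID.BlkCases
import Cfsg.Agent.PreUniq.Cases

/-!
# S4622 (project TID): the assembly (helper62)
-/

set_option autoImplicit false

namespace Cfsg.Agent.TID

open Cfsg
open Cfsg.Agent.TID.Blk (Concl)

universe u

/-- the classification, as a hypothesis -/
def Known : Prop := ∀ (S : Type u) [Group S] [Finite S] [IsSimpleGroup S], IsKnownSimple' S

/-- the group theoretic rows give `KAll` -/
theorem kAll_of (hK : Known.{u}) (h1 : KAlt.{u}) (h2 : KDef.{u}) (h3 : KBig.{u}) (h4 : KEven35.{u}) (h5 : KTwo.{u})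
    (h6 : KSporTwo.{u}) (h7 : KSporOdd.{u}) : KAll.{u} := by
  intro p hp X _ _ S D h _
  have hs := h.soc.simple
  have hsp : (Lie.IsoTits S ∨ IsSporadicGroup S) → Out p S D := fun h8 => by
    by_cases h2' : p = 2
    · exact h6 p X S D h ⟨h2', h8⟩
    · exact h7 p X S D h ⟨h2', h8⟩
  rcases PreUniq.known_cases (hK S) with hc | hc | ⟨r, hr, hc⟩ | hc | hc
  · exfalso
    apply h.soc.nonab
    have hcyc : IsCyclic S := by
      have : Fact (Nat.card S).Prime := ⟨hc⟩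
      exact isCyclic_of_prime_card rfl
    exact ⟨⟨fun a b => (IsCyclic.commGroup (α := S)).mul_comm a b⟩⟩
  · exact h1 p X S D h hc
  · by_cases hpr : p = r
    · subst hpr
      exact h2 p X S D h hc
    by_cases hp2 : p = 2
    · exact h5 p X S D h ⟨hp2, r, hr, fun h9 => hpr (hp2.trans h9.symm), hc⟩
    by_cases hb : 7 ≤ p ∨ r ≠ 2
    · exact h3 p X S D h ⟨hp2, r, hr, hpr, hb, hc⟩
    · push Not at hb
      obtain ⟨hb1, rfl⟩ := hb
      refine h4 p X S D h ⟨?_, hc⟩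
      have h10 := hp.out
      have h11 := h10.two_le
      interval_cases p
      · exact absurd rfl hp2
      · exact Or.inl rfl
      · exact absurd h10 (by norm_num)
      · exact Or.inr rfl
      · exact absurd h10 (by norm_num)
  · exact hsp (Or.inl hc)
  · exact hsp (Or.inr hc)

/-- the rows with a Sylow defect group -/
structure SRows : Prop where
  sq : SSq.{u}
  l2 : SL2.{u}
  u3 : SU3.{u}
  sz : SSz.{u}
  ree : SRee.{u}
  mcl : SMcL.{u}
  j4 : SJ4.{u}
  sz32 : SSz32.{u}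
  l28 : SL28.{u}

/-- the reduced situation -/
theorem cenAll_of (hK : KAll.{u}) (hR : BoxRad.{u}) (hQ : BoxQuot.{u}) (hT : ToSylow.{u}) (hL : SylList.{u})
    (hS : SRows.{u}) (hON : NON.{u}) (hSuz : NSuz.{u}) : CenAll.{u} := by
  intro p hp G _ _ S M B D hC h hrk
  obtain ⟨h1, h2, h3⟩ := hR p G M B D h
  obtain ⟨h4, h5, h6, h7⟩ := hQ p G D hC.cen ⟨h1, h.ti, hrk, h2⟩ h3
  have hAS : AS p S (img p D) := ⟨hC.soc, h4⟩
  obtain ⟨h8, h9⟩ := hK p _ S (img p D) hAS trivial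
  by_cases h10 : CenP p S (img p D) ∨ SylIn p S (img p D)
  · have h11 := hT p _ S (img p D) hAS h5 h8 h10
    obtain ⟨P, rfl⟩ : ∃ P : Sylow p G, (P : Subgroup G) = D := ⟨h1.toSylow (h7 h11), rfl⟩
    rcases hL p _ S _ hAS h11 with h12 | h12
    · exact hS.sq p G M B P h (h6.symm.trans h12)
    · rcases h12 with ⟨ha, F, hF, e⟩ | ⟨ha, F, n, hn, hF, e⟩ | ⟨ha, hp', e⟩ | ⟨ha, hp', e⟩ | ⟨ha, hp', e⟩ | ⟨ha, hp', e⟩ |
        ⟨ha, hp', F, hF, e⟩ | ⟨ha, hp', F, hF, e⟩
      · exact hS.l2 p G S M B P hC h hrk ⟨ha, F, inferInstance, inferInstance, hF, e⟩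
      · exact hS.u3 p G S M B P hC h hrk ⟨ha, F, inferInstance, inferInstance, n, hn, hF, e⟩
      · exact hS.sz p G S M B P hC h hrk ⟨ha, hp', e⟩
      · exact hS.ree p G S M B P hC h hrk ⟨ha, hp', e⟩
      · exact hS.mcl p G S M B P hC h hrk ⟨ha, hp', e⟩
      · exact hS.j4 p G S M B P hC h hrk ⟨ha, hp', e⟩
      · exact hS.sz32 p G S M B P hC h hrk ⟨ha, hp', F, inferInstance, inferInstance, hF, e⟩
      · exact hS.l28 p G S M B P hC h hrk ⟨ha, hp', F, inferInstance, inferInstance, hF, e⟩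
  · push Not at h10
    rcases h9 with h9 | h9 | ⟨rfl, h9⟩ | ⟨rfl, h9 | h9⟩
    · exact absurd h9 h10.1
    · exact absurd h9 h10.2
    · refine Blk.concl_klein h.modu h.blk h.dfc ?_
      obtain ⟨V, hV1, hV2, hV3⟩ := hrk
      have hc : Nat.card D = 4 := h6.symm.trans h9
      have hVD : V = D := Subgroup.eq_of_le_of_card_ge hV1 (by rw [hc, hV3]; norm_num)
      subst hVD
      have hnt : Nontrivial V := Finite.one_lt_card_iff_nontrivial.1 (by rw [hc]; norm_num)
      refine ⟨hc, ?_⟩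
      rw [Monoid.exponent_eq_prime_iff Nat.prime_two]
      intro g hg
      exact orderOf_eq_prime (Subtype.ext (hV2.2 g g.2)) hg
    · exact hON G S M B D hC h hAS h5 h10.1 h10.2 h9
    · exact hSuz G S M B D hC h hAS h5 h10.1 h10.2 h9

/-- **S4622 from the boxes.** -/
theorem main_of (hK : KAll.{u}) (hSm : BoxSmall.{u}) (hR : BoxRad.{u}) (hSt : Struct.{u}) (hRed : Red.{u})
    (hC : CenAll.{u}) {p : ℕ} [Fact p.Prime] {G : Type u} [Group G] [Finite G] (hO : pCore p G = ⊥) {M : Ideal AlgInt}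
    {B : Set (IrrCharacter G)} {D : Subgroup G} (h : Hyp p M B D) (hD : D ≠ ⊥) : Concl p M B D := by
  by_cases hrk : Rk2 p D
  · obtain ⟨h1, h2, -⟩ := hR p G M B D h
    exact hRed hC p G M B D hO h hrk (hSt hK p G D hO ⟨h1, h.ti, hrk, h2⟩)
  · exact hSm p G M B D h hD hrk

end Cfsg.Agent.TID
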