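import Mathlib
import Cfsg.Agent.TID.BlkContr
import Cfsg.Agent.TID.BlkCases
import Cfsg.Agent.PermutationGroups.AutQuaternion
import Cfsg.Agent.S4530

/-!
# S4622, block part: blocks with a normal quaternion defect group of order 8 (helper31)

`z` a central involution of `X`, `sh z` the translation by `z`, `Fa z b` the members `η` of `b` with `η (z g) = - η g`.

* `QD P z`: the group data; `exists_QD`;
* `card_Fa`: `|Fa z b| = l(b)`;
* `inner_Fa`, `inner_not_Fa`: the inner products with the singular parts of the members of `Fa z b`.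
-/

set_option autoImplicit false
set_option linter.unusedSectionVars false

namespace Cfsg.Agent.TID.Blk

open Cfsg Module Cfsg.Agent.H608.BlockRank Cfsg.Agent.Blocks.Basic Cfsg.Agent.Blocks.Local
open Cfsg.Agent.H608.TI (IsTI sg)
open scoped ComplexConjugate

universe u

section grp

open QuaternionGroup Cfsg.Agent.PermutationGroups.AutQuaternion

theorem q8_inv : ∀ u : QuaternionGroup 2, u * u ≠ 1 → ∃ d : QuaternionGroup 2, d * u * d⁻¹ = a 2 * u := by
  decide +kernel

theorem q8_four : ∀ x y : QuaternionGroup 2, good x y = true → ∀ u : QuaternionGroup 2, u * u ≠ 1 →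
    cand x y u = u → ∀ g, cand x y (cand x y (cand x y (cand x y g))) = g := by
  decide +kernel

theorem q8_aut (φ : MulAut (QuaternionGroup 2)) {u : QuaternionGroup 2} (hu : u * u ≠ 1) (h : φ u = u) :
    φ ^ 4 = 1 := by
  ext g
  rw [pow_succ, pow_succ, pow_two, MulAut.mul_apply, MulAut.mul_apply, MulAut.mul_apply,
    MulAut.one_apply, eq_cand φ, eq_cand φ (φ (φ g)), eq_cand φ (φ g), eq_cand φ g]
  exact q8_four _ _ (good_map φ) u hu (by rw [← eq_cand φ]; exact h) g

variable {X : Type u} [Group X]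

/-- The group data. -/
structure QD (P : Subgroup X) (z : X) : Prop where
  mem : z ∈ P
  ne : z ≠ 1
  sq : z * z = 1
  cen : ∀ g, z * g = g * z
  inv : ∀ u ∈ P, u ≠ 1 → u ≠ z → ∀ y : X, ¬ 2 ∣ orderOf y → Commute u y →
    ∃ d : X, d * (u * y) * d⁻¹ = z * (u * y)

theorem exists_QD [Finite X] (P : Subgroup X) [hP : P.Normal] (e : P ≃* QuaternionGroup 2) : ∃ z, QD P z := by
  have h2 : (a 2 : QuaternionGroup 2) * a 2 = 1 := by decide
  have h3 : (a 2 : QuaternionGroup 2) ≠ 1 := by decide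
  have huniq : ∀ w : P, w * w = 1 → w ≠ 1 → w = e.symm (a 2) := by
    intro w h1 h4
    rw [← eq_two (e w) (by rw [← map_mul, h1, map_one]) (fun h => h4 ((MulEquiv.map_eq_one_iff e).1 h)),
      e.symm_apply_apply]
  have hz2 : e.symm (a 2) * e.symm (a 2) = 1 := by rw [← map_mul, h2, map_one]
  have hz1 : e.symm (a 2) ≠ 1 := fun h => h3 ((MulEquiv.map_eq_one_iff e.symm).1 h)
  refine ⟨(e.symm (a 2) : P), (e.symm (a 2)).2, fun h => hz1 (Subtype.ext h), congrArg Subtype.val hz2, ?_, ?_⟩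
  · intro g
    have h4 := huniq (MulAut.conjNormal g (e.symm (a 2))) (by rw [← map_mul, hz2, map_one])
      (fun h => hz1 ((MulEquiv.map_eq_one_iff _).1 h))
    have h5 : g * (e.symm (a 2) : P) * g⁻¹ = (e.symm (a 2) : P) := congrArg Subtype.val h4
    exact (mul_inv_eq_iff_eq_mul.1 h5).symm
  · intro u hu hu1 huz y hy hc
    have h4 : e ⟨u, hu⟩ * e ⟨u, hu⟩ ≠ 1 := by
      intro h
      rw [← map_mul, MulEquiv.map_eq_one_iff] at h
      exact huz (congrArg Subtype.val (huniq _ h fun h' => hu1 (congrArg Subtype.val h')))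
    let φ : MulAut (QuaternionGroup 2) := MulAut.congr e (MulAut.conjNormal y)
    have hφ : ∀ w : P, φ (e w) = e (MulAut.conjNormal y w) := by
      intro w
      simp [φ]
    have h5 : φ (e ⟨u, hu⟩) = e ⟨u, hu⟩ := by
      rw [hφ]
      congr 1
      apply Subtype.ext
      change y * u * y⁻¹ = u
      rw [← hc.eq, mul_inv_cancel_right]
    have h6 := q8_aut φ h4 h5
    have h7 : φ ^ orderOf y = 1 := by
      change (MulAut.congr e (MulAut.conjNormal y)) ^ orderOf y = 1
      rw [← map_pow, ← map_pow, pow_orderOf_eq_one, map_one, map_one]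
    have h8 : φ = 1 := by
      have h9 : Nat.Coprime (orderOf y) (2 ^ 2) :=
        Nat.Coprime.pow_right 2 ((Nat.Prime.coprime_iff_not_dvd Nat.prime_two).2 hy).symm
      have h10 := Nat.dvd_gcd (orderOf_dvd_of_pow_eq_one h7) (orderOf_dvd_of_pow_eq_one h6)
      rw [show (4 : ℕ) = 2 ^ 2 by norm_num, h9] at h10
      exact orderOf_eq_one_iff.1 (Nat.dvd_one.1 h10)
    obtain ⟨d, hd⟩ := q8_inv _ h4
    have h9 : y * (e.symm d : P) * y⁻¹ = (e.symm d : P) := by
      have h10 := hφ (e.symm d)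
      rw [h8, MulAut.one_apply] at h10
      exact congrArg Subtype.val (e.injective h10).symm
    have h10 : (e.symm d : P) * u * ((e.symm d : P) : X)⁻¹ = (e.symm (a 2) : P) * u := by
      have h11 := congrArg e.symm hd
      rw [map_mul, map_mul, map_mul, map_inv, e.symm_apply_apply] at h11
      exact congrArg Subtype.val h11
    refine ⟨(e.symm d : P), ?_⟩
    have h11 : y * ((e.symm d : P) : X)⁻¹ = ((e.symm d : P) : X)⁻¹ * y := by
      have h12 := mul_inv_eq_iff_eq_mul.1 h9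
      rw [eq_inv_mul_iff_mul_eq, ← mul_assoc, ← h12, mul_inv_cancel_right]
    rw [← mul_assoc, mul_assoc _ y, h11, ← mul_assoc, h10, mul_assoc]

end grp

variable {X : Type u} [Group X] [Fintype X] {z : X} {P : Subgroup X} {M : Ideal AlgInt} {b : Set (IrrCharacter X)}

/-- The translation by `z`. -/
def sh (z : X) : (X → ℂ) →ₗ[ℂ] (X → ℂ) := LinearMap.funLeft ℂ ℂ fun g => z * g

theorem sh_apply (z : X) (θ : X → ℂ) (g : X) : sh z θ g = θ (z * g) := rfl

/-- The members on which `z` acts as `-1`. -/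
def Fa (z : X) (b : Set (IrrCharacter X)) : Set (IrrCharacter X) := {η | η ∈ b ∧ sh z (η : X → ℂ) = -(η : X → ℂ)}

theorem inner_sh (z : X) (θ φ : X → ℂ) : classInner (sh z θ) (sh z φ) = classInner θ φ := by
  rw [Characters.Core.classInner_def, Characters.Core.classInner_def]
  congr 1
  exact Fintype.sum_equiv (Equiv.mulLeft z) _ _ fun g => rfl

theorem QD.sh_sh (h : QD P z) (θ : X → ℂ) : sh z (sh z θ) = θ := by
  funext g
  rw [sh_apply, sh_apply, ← mul_assoc, h.sq, one_mul]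

theorem QD.inner_sh_left (h : QD P z) (θ φ : X → ℂ) : classInner (sh z θ) φ = classInner θ (sh z φ) := by
  rw [← inner_sh z θ, h.sh_sh]

theorem QD.sign (h : QD P z) (ξ : IrrCharacter X) :
    sh z (ξ : X → ℂ) = (ξ : X → ℂ) ∨ sh z (ξ : X → ℂ) = -(ξ : X → ℂ) := by
  obtain ⟨c, -, hc⟩ := Blocks.CentralizerSum.exists_central_scalar ξ.2
    (Subgroup.mem_center_iff.2 fun g => (h.cen g).symm)
  have h1 : c * c = 1 := by
    have h2 := hc (z * 1)
    rw [hc 1, ← mul_assoc, ← mul_assoc, h.sq, one_mul] at h2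
    have h3 := irr_one_ne_zero ξ.2
    exact (mul_right_cancel₀ h3 (h2.symm.trans (one_mul _).symm))
  rcases mul_self_eq_one_iff.1 h1 with h2 | h2
  · left
    funext g
    rw [sh_apply, hc, h2, one_mul]
  · right
    funext g
    rw [sh_apply, hc, h2, Pi.neg_apply, neg_one_mul]

theorem QD.ppart (h : QD P z) {y : X} (hy : IsPRegular 2 y) : IsPPart 2 (z * y) z := by
  have : Fact (Nat.Prime 2) := ⟨Nat.prime_two⟩
  exact Blocks.PPart.isPPart_mul (h.cen y) ⟨1, by
    rw [pow_one]; exact orderOf_eq_prime (by rw [pow_two]; exact h.sq) h.ne⟩ hy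

theorem QD.not_reg (h : QD P z) {y : X} (hy : IsPRegular 2 y) : ¬ IsPRegular 2 (z * y) := by
  have : Fact (Nat.Prime 2) := ⟨Nat.prime_two⟩
  exact InT.not_reg (D := P) ⟨z, h.ppart hy, h.mem, h.ne⟩

theorem QD.pReg_sh_pReg (h : QD P z) (θ : X → ℂ) : pReg 2 (sh z (pReg 2 θ)) = 0 := by
  rw [pReg_eq_zero_iff]
  intro g hg
  rw [sh_apply, pReg_of_not (h.not_reg hg)]

/-- The members of `Fa z b` vanish outside of the sections of `1` and `z`. -/
theorem QD.vanish (h : QD P z) [hP : P.Normal] (hM : IsPModular 2 M) (hb : IsPBlock M b)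
    (hD : IsDefectGroup 2 M b P) {η : IrrCharacter X} (hη : η ∈ Fa z b) {g : X} (hg : ¬ IsPRegular 2 g)
    (hg' : ¬ IsPRegular 2 (z * g)) : (η : X → ℂ) g = 0 := by
  have : Fact (Nat.Prime 2) := ⟨Nat.prime_two⟩
  by_cases hT : InT 2 P g
  · obtain ⟨u, ⟨y, rfl, hc, -, hy⟩, huP, hu1⟩ := hT
    have huz : u ≠ z := by
      rintro rfl
      rw [← mul_assoc, h.sq, one_mul] at hg'
      exact hg' hy
    obtain ⟨d, hd⟩ := h.inv u huP hu1 huz y hy hc
    have h1 := irr_conj η.2 (u * y) d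
    rw [hd] at h1
    have h2 := congrFun hη.2 (u * y)
    rw [sh_apply, h1, Pi.neg_apply] at h2
    linear_combination h2 / 2
  · refine vanish_G hM hb hD (mem_span_of_mem hη.1) hg fun c hc => hT ?_
    have h1 := hc.conj (c := c) (by rw [Nm, Subgroup.normalizer_eq_top_iff.2 hP]; trivial)
    rwa [show c * (c⁻¹ * g * c) * c⁻¹ = g by group] at h1

theorem QD.span_Fa (h : QD P z) [hP : P.Normal] (hM : IsPModular 2 M) (hb : IsPBlock M b)
    (hD : IsDefectGroup 2 M b P) {θ : X → ℂ} (hθ : θ ∈ charSpan (Fa z b)) : sg 2 θ = -sh z (pReg 2 θ) := by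
  have hle : charSpan (Fa z b) ≤ LinearMap.ker (sg 2 + sh z ∘ₗ pReg 2) := by
    unfold charSpan
    rw [Submodule.span_le]
    rintro _ ⟨η, hη, rfl⟩
    change sg 2 (η : X → ℂ) + sh z (pReg 2 (η : X → ℂ)) = 0
    funext g
    rw [Pi.add_apply, sh_apply, Pi.zero_apply]
    by_cases hg : IsPRegular 2 g
    · rw [H608.TI.sg_of_reg hg, pReg_of_not (h.not_reg hg), add_zero]
    · rw [H608.TI.sg_of_not hg]
      by_cases hg' : IsPRegular 2 (z * g)
      · rw [pReg_of hg']
        have h2 := congrFun hη.2 g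
        rw [sh_apply, Pi.neg_apply] at h2
        rw [h2, add_neg_cancel]
      · rw [pReg_of_not hg', add_zero]
        exact h.vanish hM hb hD hη hg hg'
  exact eq_neg_of_add_eq_zero_left (hle hθ)

theorem QD.sub_mem (h : QD P z) {θ : X → ℂ} (hθ : θ ∈ charSpan b) : θ - sh z θ ∈ charSpan (Fa z b) := by
  have hle : charSpan b ≤ (charSpan (Fa z b)).comap (LinearMap.id - sh z) := by
    conv_lhs => unfold charSpan
    rw [Submodule.span_le]
    rintro _ ⟨ξ, hξ, rfl⟩
    change (ξ : X → ℂ) - sh z (ξ : X → ℂ) ∈ charSpan (Fa z b)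
    rcases h.sign ξ with h1 | h1
    · rw [h1, sub_self]
      exact Submodule.zero_mem _
    · rw [h1, sub_neg_eq_add]
      exact Submodule.add_mem _ (mem_span_of_mem ⟨hξ, h1⟩) (mem_span_of_mem ⟨hξ, h1⟩)
  exact hle hθ

/-- `|Fa z b| = l(b)`. -/
theorem QD.card_Fa (h : QD P z) [hP : P.Normal] (hM : IsPModular 2 M) (hb : IsPBlock M b)
    (hD : IsDefectGroup 2 M b P) : Nat.card (Fa z b) = blockRank 2 b := by
  have hMp := isPrime_of_isPModular hM
  have hbU := isUnion_of_isPBlock hb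
  have h1 : (charSpan b).map (pReg 2) = (charSpan (Fa z b)).map (pReg 2) := by
    apply le_antisymm
    · rintro _ ⟨θ, hθ, rfl⟩
      refine ⟨pReg 2 θ - sh z (pReg 2 θ), h.sub_mem (map_pReg_le hM hbU ⟨θ, hθ, rfl⟩), ?_⟩
      rw [map_sub, H608.TI.pReg_pReg, h.pReg_sh_pReg, sub_zero]
    · exact Submodule.map_mono (charSpan_mono fun η hη => hη.1)
  rw [blockRank_eq, h1, ← finrank_charSpan]
  apply le_antisymm
  · refine H608.TI.finrank_le_of_maps _ _ (pReg 2) (fun θ hθ => ⟨θ, hθ, rfl⟩) fun θ hθ h0 => ?_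
    have h2 := h.span_Fa hM hb hD hθ
    rw [H608.TI.sg_apply, h0, map_zero, neg_zero, sub_zero] at h2
    exact h2
  · exact Submodule.finrank_map_le _ _

theorem QD.inner_sg (h : QD P z) [hP : P.Normal] (hM : IsPModular 2 M) (hb : IsPBlock M b)
    (hD : IsDefectGroup 2 M b P) {η : IrrCharacter X} (hη : η ∈ Fa z b) (θ : X → ℂ) :
    classInner θ (sg 2 (η : X → ℂ)) = -classInner (sh z θ) (pReg 2 (η : X → ℂ)) := by
  rw [h.span_Fa hM hb hD (mem_span_of_mem hη), Characters.Core.classInner_neg_right, h.inner_sh_left]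

open Classical in
/-- Both characters in `Fa z b`. -/
theorem QD.inner_Fa (h : QD P z) [hP : P.Normal] (hM : IsPModular 2 M) (hb : IsPBlock M b)
    (hD : IsDefectGroup 2 M b P) {η ξ : IrrCharacter X} (hη : η ∈ Fa z b) (hξ : ξ ∈ Fa z b) :
    2 * classInner (ξ : X → ℂ) (pReg 2 (η : X → ℂ)) = (if ξ = η then 1 else 0) ∧
    2 * classInner (ξ : X → ℂ) (sg 2 (η : X → ℂ)) = (if ξ = η then 1 else 0) := by
  have h1 := h.inner_sg hM hb hD hη (ξ : X → ℂ)
  rw [hξ.2, Characters.Core.classInner_neg_left, neg_neg] at h1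
  have h2 : classInner (ξ : X → ℂ) (η : X → ℂ) = (if ξ = η then 1 else 0) := by
    split_ifs with h3
    · rw [h3, Characters.Core.classInner_irr_self η.2]
    · exact Characters.Core.classInner_irr_ne ξ.2 η.2 fun h4 => h3 (Subtype.ext h4)
  have h3 : classInner (ξ : X → ℂ) (sg 2 (η : X → ℂ)) =
      classInner (ξ : X → ℂ) (η : X → ℂ) - classInner (ξ : X → ℂ) (pReg 2 (η : X → ℂ)) := by
    rw [H608.TI.sg_apply, Characters.Core.classInner_sub_right]
  rw [← h2]
  constructor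
  · linear_combination h3 - h1
  · linear_combination h3 + h1

theorem defect_three (hM : IsPModular 2 M) (hb : IsPBlock M b) (hD : IsDefectGroup 2 M b P)
    (e : P ≃* QuaternionGroup 2) : blockDefect 2 b = 3 := by
  have : Fact (Nat.Prime 2) := ⟨Nat.prime_two⟩
  refine defect_of_card hM hb hD ?_
  rw [Nat.card_congr e.toEquiv, Nat.card_eq_fintype_card, QuaternionGroup.card]
  norm_num

theorem QD.height_Fa (h : QD P z) [hP : P.Normal] (hM : IsPModular 2 M) (hb : IsPBlock M b)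
    (hD : IsDefectGroup 2 M b P) (e : P ≃* QuaternionGroup 2) {η : IrrCharacter X} (hη : η ∈ Fa z b) :
    blockHeight 2 b (η : X → ℂ) = 1 := by
  have : Fact (Nat.Prime 2) := ⟨Nat.prime_two⟩
  have h1 := (Cfsg.Agent.S4530.result M hM b hb P hD 3 le_rfl ⟨e⟩).2.2.2.2.1 η hη.1
  have h2 : blockHeight 2 b (η : X → ℂ) ≠ 0 := by
    intro h0
    obtain ⟨n, hn, h3⟩ := contr_of_zero hM hb hη.1 h0 hη.1
    have h4 := (h.inner_Fa hM hb hD hη hη).1
    rw [if_pos rfl, ← inner_pReg_left] at h4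
    rw [defect_three hM hb hD e, h0] at h3
    have h5 : (n : ℂ) = ((4 : ℤ) : ℂ) := by
      push_cast at h3 ⊢
      linear_combination 4 * h4 - h3
    have h6 : n = 4 := by exact_mod_cast h5
    exact hn ⟨2, by rw [h6]; norm_num⟩
  omega

/-- The other members have height zero. -/
theorem QD.height_not_Fa (h : QD P z) [hP : P.Normal] (hM : IsPModular 2 M) (hb : IsPBlock M b)
    (hD : IsDefectGroup 2 M b P) (e : P ≃* QuaternionGroup 2) {ξ : IrrCharacter X} (hξ : ξ ∈ b)
    (hξ' : ξ ∉ Fa z b) : blockHeight 2 b (ξ : X → ℂ) = 0 := by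
  classical
  have := Characters.Core.finite_irr (G := X)
  obtain ⟨-, -, h1, h2, -⟩ := Cfsg.Agent.S4530.result M hM b hb P hD 3 le_rfl ⟨e⟩
  have h3 := h.card_Fa hM hb hD
  have hsub : {χ : IrrCharacter X | χ ∈ b ∧ blockHeight 2 b (χ : X → ℂ) = 0} ⊆ b \ Fa z b := by
    intro χ hχ
    refine ⟨hχ.1, fun h4 => ?_⟩
    have h5 := h.height_Fa hM hb hD e h4
    rw [hχ.2] at h5
    omega
  have h4 : (b \ Fa z b).ncard + (Fa z b).ncard = b.ncard :=
    Set.ncard_sdiff_add_ncard_of_subset (fun η hη => hη.1)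
  have h5 : ({χ : IrrCharacter X | χ ∈ b ∧ blockHeight 2 b (χ : X → ℂ) = 0}).ncard = 4 := h2
  have h6 : b.ncard = blockRank 2 b + 2 ^ (3 - 2) + 2 := h1
  have h7 : (Fa z b).ncard = blockRank 2 b := h3
  have h8 := Set.eq_of_subset_of_ncard_le hsub (by omega)
  have h9 : ξ ∈ b \ Fa z b := ⟨hξ, hξ'⟩
  rw [← h8] at h9
  exact h9.2

/-- The second character not in `Fa z b`. -/
theorem QD.inner_not_Fa (h : QD P z) [hP : P.Normal] (hM : IsPModular 2 M) (hb : IsPBlock M b)
    (hD : IsDefectGroup 2 M b P) (e : P ≃* QuaternionGroup 2) {η ξ : IrrCharacter X} (hη : η ∈ Fa z b)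
    (hξ : ξ ∈ b) (hξ' : ξ ∉ Fa z b) :
    ∃ n : ℤ, Odd n ∧ 4 * classInner (ξ : X → ℂ) (sg 2 (η : X → ℂ)) = n := by
  have : Fact (Nat.Prime 2) := ⟨Nat.prime_two⟩
  obtain ⟨n, hn, h3⟩ := contr_of_zero hM hb hξ (h.height_not_Fa hM hb hD e hξ hξ') hη.1
  rw [defect_three hM hb hD e, h.height_Fa hM hb hD e hη, inner_pReg_left] at h3
  have h1 := h.inner_sg hM hb hD hη (ξ : X → ℂ)
  rw [(h.sign ξ).resolve_right fun h4 => hξ' ⟨hξ, h4⟩] at h1
  refine ⟨-n, ?_, ?_⟩
  · rw [odd_neg, ← Int.not_even_iff_odd, even_iff_two_dvd]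
    exact hn
  · rw [h1]
    push_cast at h3 ⊢
    linear_combination -h3 / 2

end Cfsg.Agent.TID.Blk
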