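import Mathlib
import Cfsg.Agent.TID.BlkQEightN
import Cfsg.Agent.H614.Spin.DefElt

/-!
# S4622, block part: quaternion TI defect groups (helper31)

* `comb_eight`: the combinatorial lemma;
* `card_eight`: `k(B) = k(b)` for a TI defect group `Q₈`;
* `concl_quat`: S4622 for generalized quaternion TI defect groups.
-/

set_option autoImplicit false
set_option linter.unusedSectionVars false

namespace Cfsg.Agent.TID.Blk

open Cfsg Module Cfsg.Agent.H608.BlockRank Cfsg.Agent.Blocks.Basic Cfsg.Agent.Blocks.Local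
open Cfsg.Agent.H608.TI (IsTI sg resN)
open scoped ComplexConjugate

universe u

theorem comb_eight {I J : Type*} [Fintype I] [Fintype J] [DecidableEq J] (hI : Fintype.card I ≤ 7) (η₀ : J)
    (A : J → I → ℤ) (s : I → Prop) (d : I → ℤ) (hd : ∀ χ, d χ ≠ 0) (h1 : ∀ η χ, Odd (A η χ) ↔ s χ)
    (h2 : ∀ η η', ∑ χ, A η χ * A η' χ = if η = η' then 8 else 0) (h3 : ∃ χ, s χ)
    (h4 : ∀ η, ∑ χ, A η χ * d χ = 0) (h5 : ∀ χ, ∃ η, A η χ ≠ 0) : Fintype.card I = 4 + Fintype.card J := by
  classical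
  have hsq : ∀ η χ, ¬ s χ → A η χ ≠ 0 → 4 ≤ A η χ * A η χ := by
    intro η χ hχ h0
    obtain ⟨c, hc⟩ : Even (A η χ) := Int.not_odd_iff_even.1 fun h => hχ ((h1 η χ).1 h)
    have hc0 : c ≠ 0 := by
      rintro rfl
      exact h0 (by rw [hc]; ring)
    have : 1 ≤ c * c := mul_self_pos.2 hc0
    rw [hc]
    nlinarith
  have key : ∀ η, (Finset.univ.filter s).card = 4 ∧ ∑ χ with ¬ s χ, A η χ * A η χ = 4 := by
    intro η
    have e1 := h2 η η
    rw [if_pos rfl, ← Finset.sum_filter_add_sum_filter_not Finset.univ s] at e1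
    have e2 : ∑ χ with s χ, A η χ * A η χ = ∑ χ with s χ, (A η χ * A η χ - 1) + (Finset.univ.filter s).card := by
      rw [Finset.sum_sub_distrib, Finset.sum_const, nsmul_eq_mul, mul_one, sub_add_cancel]
    obtain ⟨T, hT⟩ : (8 : ℤ) ∣ ∑ χ with s χ, (A η χ * A η χ - 1) := by
      refine Finset.dvd_sum fun χ hχ => ?_
      have := Int.eight_dvd_sq_sub_one_of_odd ((h1 η χ).2 (Finset.mem_filter.1 hχ).2)
      rwa [sq] at this
    have hT0 : 0 ≤ ∑ χ with s χ, (A η χ * A η χ - 1) := by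
      refine Finset.sum_nonneg fun χ hχ => ?_
      have h6 : A η χ ≠ 0 := by
        intro h0
        have := (h1 η χ).2 (Finset.mem_filter.1 hχ).2
        rw [h0] at this
        exact absurd this (by decide)
      have : 1 ≤ A η χ * A η χ := mul_self_pos.2 h6
      omega
    obtain ⟨U, hU⟩ : (4 : ℤ) ∣ ∑ χ with ¬ s χ, A η χ * A η χ := by
      refine Finset.dvd_sum fun χ hχ => ?_
      obtain ⟨c, hc⟩ : Even (A η χ) := Int.not_odd_iff_even.1 fun h => (Finset.mem_filter.1 hχ).2 ((h1 η χ).1 h)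
      exact ⟨c * c, by rw [hc]; ring⟩
    have hU0 : 0 ≤ ∑ χ with ¬ s χ, A η χ * A η χ := Finset.sum_nonneg fun χ _ => mul_self_nonneg _
    have e3 : 1 ≤ (Finset.univ.filter s).card := by
      obtain ⟨χ, hχ⟩ := h3
      exact Finset.card_pos.2 ⟨χ, Finset.mem_filter.2 ⟨Finset.mem_univ _, hχ⟩⟩
    have e4 : (Finset.univ.filter s).card ≤ 7 := (Finset.card_le_univ _).trans hI
    omega
  have hex : ∀ η, ∃ χ, ¬ s χ ∧ A η χ * A η χ = 4 ∧ ∀ χ', ¬ s χ' → A η χ' ≠ 0 → χ' = χ := by
    intro η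
    have e1 := (key η).2
    obtain ⟨χ, hχ, h0⟩ := Finset.exists_ne_zero_of_sum_ne_zero (by rw [e1]; norm_num :
      ∑ χ with ¬ s χ, A η χ * A η χ ≠ 0)
    have hχ' := (Finset.mem_filter.1 hχ).2
    have e2 := hsq η χ hχ' (fun h => h0 (by rw [h, zero_mul]))
    rw [← Finset.add_sum_erase _ _ hχ] at e1
    have e3 : 0 ≤ ∑ χ' ∈ (Finset.univ.filter fun χ => ¬ s χ).erase χ, A η χ' * A η χ' :=
      Finset.sum_nonneg fun χ _ => mul_self_nonneg _
    refine ⟨χ, hχ', by omega, fun χ' h6 h7 => ?_⟩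
    by_contra h8
    have e4 : A η χ' * A η χ' ≤ ∑ χ' ∈ (Finset.univ.filter fun χ => ¬ s χ).erase χ, A η χ' * A η χ' :=
      Finset.single_le_sum (f := fun χ' => A η χ' * A η χ') (fun χ _ => mul_self_nonneg _)
        (Finset.mem_erase.2 ⟨h8, Finset.mem_filter.2 ⟨Finset.mem_univ _, h6⟩⟩)
    have e5 := hsq η χ' h6 h7
    omega
  choose f hf1 hf2 hf3 using hex
  have hinj : Function.Injective f := by
    intro η η' he
    by_contra hne
    obtain ⟨σ, hσ, hA⟩ : ∃ σ : ℤ, σ * σ = 1 ∧ A η' (f η) = σ * A η (f η) := by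
      have e1 := hf2 η
      have e2 := hf2 η'
      rw [← he, ← e1] at e2
      rcases mul_self_eq_mul_self_iff.1 e2 with h | h
      · exact ⟨1, by norm_num, by rw [h, one_mul]⟩
      · exact ⟨-1, by norm_num, by rw [h, neg_one_mul]⟩
    have e1 : ∑ χ, (A η' χ + σ * A η χ) * (A η' χ + σ * A η χ) = 16 := by
      have e2 : ∀ χ, (A η' χ + σ * A η χ) * (A η' χ + σ * A η χ) =
          A η' χ * A η' χ + 2 * σ * (A η χ * A η' χ) + A η χ * A η χ := by
        intro χ
        linear_combination (A η χ * A η χ) * hσ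
      rw [Finset.sum_congr rfl fun χ _ => e2 χ, Finset.sum_add_distrib, Finset.sum_add_distrib, ← Finset.mul_sum,
        h2, h2, h2, if_pos rfl, if_pos rfl, if_neg hne]
      norm_num
    have e2 : (A η' (f η) + σ * A η (f η)) * (A η' (f η) + σ * A η (f η)) = 16 := by
      rw [hA]
      linear_combination 4 * (A η (f η) * A η (f η)) * hσ + 4 * hf2 η
    rw [← Finset.add_sum_erase _ _ (Finset.mem_univ (f η)), e2] at e1
    have e3 : ∑ χ ∈ Finset.univ.erase (f η), (A η' χ + σ * A η χ) * (A η' χ + σ * A η χ) = 0 := by omega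
    rw [Finset.sum_eq_zero_iff_of_nonneg fun χ _ => mul_self_nonneg _] at e3
    have e4 : ∑ χ, (A η' χ + σ * A η χ) * d χ = 0 := by
      simp only [add_mul, mul_assoc]
      rw [Finset.sum_add_distrib, ← Finset.mul_sum, h4, h4, mul_zero, add_zero]
    rw [← Finset.add_sum_erase _ _ (Finset.mem_univ (f η)), Finset.sum_eq_zero, add_zero] at e4
    · rcases mul_eq_zero.1 e4 with h | h
      · rw [h] at e2
        norm_num at e2
      · exact hd _ h
    · intro χ hχ
      rw [mul_self_eq_zero.1 (e3 χ hχ), zero_mul]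
  have e1 : (Finset.univ.filter fun χ => ¬ s χ) = Finset.univ.image f := by
    ext χ
    rw [Finset.mem_filter, Finset.mem_image]
    constructor
    · rintro ⟨-, hχ⟩
      obtain ⟨η, hη⟩ := h5 χ
      exact ⟨η, Finset.mem_univ _, (hf3 η χ hχ hη).symm⟩
    · rintro ⟨η, -, rfl⟩
      exact ⟨Finset.mem_univ _, hf1 η⟩
  rw [← Finset.card_univ, ← Finset.card_filter_add_card_filter_not s, (key η₀).1, e1,
    Finset.card_image_of_injective _ hinj, Finset.card_univ]

section expand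

variable {X : Type u} [Group X] [Fintype X] {A : Set (IrrCharacter X)} [Fintype A]

/-- Expansion of a member of the span. -/
theorem span_eq_sum {θ : X → ℂ} (hθ : θ ∈ charSpan A) :
    θ = ∑ χ : A, classInner θ ((χ : IrrCharacter X) : X → ℂ) • ((χ : IrrCharacter X) : X → ℂ) := by
  classical
  have := Characters.Core.finite_irr (G := X)
  have := Fintype.ofFinite (IrrCharacter X)
  conv_lhs => rw [← blockPart_of_mem hθ, H650.blockPart_eq_sum_filter]
  exact Finset.sum_subtype _ (fun χ => by simp) _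

theorem inner_eq_sum {θ : X → ℂ} (hθ : θ ∈ charSpan A) (φ : X → ℂ) :
    classInner θ φ = ∑ χ : A, classInner θ ((χ : IrrCharacter X) : X → ℂ) *
      classInner ((χ : IrrCharacter X) : X → ℂ) φ := by
  conv_lhs => rw [span_eq_sum hθ, Characters.Core.classInner_sum_left]
  exact Finset.sum_congr rfl fun χ _ => Characters.Core.classInner_smul_left _ _ _

end expand

variable {G : Type u} [Group G] [Finite G] {M : Ideal AlgInt} {B : Set (IrrCharacter G)} {D : Subgroup G}

theorem exists_mult [Fintype (Nm D)] (b : Set (IrrCharacter (Nm D))) (χ : IrrCharacter G) (ξ : b) :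
    ∃ n : ℕ, classInner (resB D b (χ : G → ℂ)) ((ξ : IrrCharacter (Nm D)) : Nm D → ℂ) = n := by
  rw [resB_apply, inner_blockPart (mem_span_of_mem ξ.2)]
  exact Characters.Core.classInner_isNat
    (Characters.Brauer.isCharacter_restrict (Characters.Core.isIrr_isCharacter χ.2) (Nm D))
    (Characters.Core.isIrr_isCharacter (ξ : IrrCharacter (Nm D)).2)

/-- **`k(B) = k(b)` for TI defect groups `Q₈`.** -/
theorem card_eight (hM : IsPModular 2 M) (hD : IsDefectGroup 2 M B D) (hTI : IsTI D) (e : D ≃* QuaternionGroup 2)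
    {b : Set (IrrCharacter (Nm D))} (hb : IsInducedBlock M (Nm D) b B) : Nat.card B = Nat.card b := by
  classical
  have : Fact (Nat.Prime 2) := ⟨Nat.prime_two⟩
  have hMp := isPrime_of_isPModular hM
  have := Fintype.ofFinite G
  have := Fintype.ofFinite (Nm D)
  have := Characters.Core.finite_irr (G := G)
  have := Characters.Core.finite_irr (G := Nm D)
  have := Fintype.ofFinite B
  have := Fintype.ofFinite b
  have hN : (D.subgroupOf (Nm D)).Normal := Subgroup.normal_in_normalizer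
  let e' : D.subgroupOf (Nm D) ≃* QuaternionGroup 2 := (Subgroup.subgroupOfEquivOfLe Subgroup.le_normalizer).trans e
  obtain ⟨z, h⟩ := exists_QD _ e'
  have hbD := defect_br hM hD hb
  have hbU := isUnion_of_isPBlock hb.1
  have := Fintype.ofFinite (Fa z b)
  obtain ⟨hl1, -, hkb, -⟩ := Cfsg.Agent.S4530.result M hM b hb.1 _ hbD 3 le_rfl ⟨e'⟩
  obtain ⟨-, hl3, hkB, -⟩ := Cfsg.Agent.S4530.result M hM B hb.2.1 D hD 3 le_rfl ⟨e⟩
  have hFa := h.card_Fa hM hb.1 hbD
  obtain ⟨η₀⟩ : Nonempty (Fa z b) := (Nat.card_pos_iff.1 (by omega)).1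
  -- the singular parts
  let f : Fa z b → Nm D → ℂ := fun η => sg 2 ((η : IrrCharacter (Nm D)) : Nm D → ℂ)
  have hf1 : ∀ η, f η ∈ charSpan b := fun η =>
    H608.TI.map_sg_le hM hbU ⟨_, mem_span_of_mem η.2.1, rfl⟩
  have hf0 : ∀ η, pReg 2 (f η) = 0 := fun η => H608.TI.pReg_sg _
  let F : Fa z b → G → ℂ := fun η => indFun (Nm D) (f η)
  have hF1 : ∀ η, F η ∈ charSpan B := fun η => ind_mem hM hD hTI hb (hf1 η) (hf0 η)
  have hF0 : ∀ η, pReg 2 (F η) = 0 := fun η => ind_reg (supp_of hM hD hb (hf1 η) (hf0 η))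
  -- the multiplicities and the inner products
  choose n hn using exists_mult b
  have hc : ∀ (η : Fa z b) (ξ : b), ∃ c : ℤ, (Odd c ↔ (ξ : IrrCharacter (Nm D)) ∉ Fa z b) ∧
      4 * classInner ((ξ : IrrCharacter (Nm D)) : Nm D → ℂ) (f η) = c := by
    intro η ξ
    by_cases hξ : (ξ : IrrCharacter (Nm D)) ∈ Fa z b
    · have h1 := (h.inner_Fa hM hb.1 hbD η.2 hξ).2
      by_cases h2 : (ξ : IrrCharacter (Nm D)) = η
      · rw [if_pos h2] at h1
        refine ⟨2, ⟨fun h3 => absurd h3 (by decide), fun h3 => absurd hξ h3⟩, ?_⟩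
        push_cast
        linear_combination 2 * h1
      · rw [if_neg h2] at h1
        refine ⟨0, ⟨fun h3 => absurd h3 (by decide), fun h3 => absurd hξ h3⟩, ?_⟩
        push_cast
        linear_combination 2 * h1
    · obtain ⟨c, h1, h2⟩ := h.inner_not_Fa hM hb.1 hbD e' η.2 ξ.2 hξ
      exact ⟨c, ⟨fun _ => hξ, fun _ => h1⟩, h2⟩
  choose c hc1 hc2 using hc
  let A : Fa z b → B → ℤ := fun η χ => ∑ ξ : b, (n χ ξ : ℤ) * c η ξ
  have hA : ∀ (η : Fa z b) (χ : B), 4 * classInner (resB D b ((χ : IrrCharacter G) : G → ℂ)) (f η) = A η χ := by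
    intro η χ
    rw [inner_eq_sum (resB_mem D b _), Finset.mul_sum]
    push_cast [A]
    refine Finset.sum_congr rfl fun ξ _ => ?_
    rw [hn, ← hc2]
    ring
  have hA1 : ∀ (η : Fa z b) (χ : B), 4 * classInner (F η) ((χ : IrrCharacter G) : G → ℂ) = A η χ := by
    intro η χ
    have h1 := congrArg conj (hA η χ)
    rw [map_mul, Characters.Core.classInner_conj_symm, map_intCast, map_ofNat] at h1
    rw [← h1, inner_ind (hf1 η) (irr_isClassFunction (χ : IrrCharacter G).2)]
  have hA2 : ∀ (η : Fa z b) (χ : B), 4 * classInner ((χ : IrrCharacter G) : G → ℂ) (F η) = A η χ := by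
    intro η χ
    have h1 := congrArg conj (hA1 η χ)
    rwa [map_mul, Characters.Core.classInner_conj_symm, map_intCast, map_ofNat] at h1
  let s : B → Prop := fun χ => Odd (∑ ξ ∈ Finset.univ.filter (fun ξ : b => ξ.1 ∉ Fa z b), (n χ ξ : ℤ))
  have hcard := comb_eight (I := B) (J := Fa z b) (by rw [← Nat.card_eq_fintype_card]; omega) η₀ A s
    (fun χ => (charDegree ((χ : IrrCharacter G) : G → ℂ) : ℤ))
    (fun χ => Nat.cast_ne_zero.2 (H608.TI.charDegree_ne _)) ?_ ?_ ?_ ?_ ?_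
  · rw [← Nat.card_eq_fintype_card, ← Nat.card_eq_fintype_card] at hcard
    omega
  · intro η χ
    have h1 : (2 : ℤ) ∣ A η χ - ∑ ξ ∈ Finset.univ.filter (fun ξ : b => ξ.1 ∉ Fa z b), (n χ ξ : ℤ) := by
      rw [Finset.sum_filter, ← Finset.sum_sub_distrib]
      refine Finset.dvd_sum fun ξ _ => ?_
      split_ifs with h2
      · rw [sub_zero]
        exact Dvd.dvd.mul_left (even_iff_two_dvd.1 (Int.not_odd_iff_even.1 fun h3 => (hc1 η ξ).1 h3 h2)) _
      · obtain ⟨k, hk⟩ := (hc1 η ξ).2 h2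
        exact ⟨n χ ξ * k, by rw [hk]; ring⟩
    obtain ⟨k, hk⟩ := h1
    change Odd (A η χ) ↔ Odd _
    rw [sub_eq_iff_eq_add.1 hk, Int.odd_add', Int.odd_iff, Int.even_iff]
    omega
  · intro η η'
    have h1 := inner_ind_ind hM hD hTI hb (hf1 η) (hf1 η') (hf0 η')
    have h2 := inner_eq_sum (hF1 η) (F η')
    have h3 : classInner (f η) (f η') = classInner ((η : IrrCharacter (Nm D)) : Nm D → ℂ) (f η') := by
      show classInner (((η : IrrCharacter (Nm D)) : Nm D → ℂ) - pReg 2 ((η : IrrCharacter (Nm D)) : Nm D → ℂ)) _ = _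
      rw [Characters.Core.classInner_sub_left, inner_pReg_left, hf0, Characters.Core.classInner_zero_right, sub_zero]
    have h4 := (h.inner_Fa hM hb.1 hbD η'.2 η.2).2
    have h5 : ((∑ χ, A η χ * A η' χ : ℤ) : ℂ) = 16 * classInner (F η) (F η') := by
      rw [h2, Finset.mul_sum]
      push_cast
      refine Finset.sum_congr rfl fun χ _ => ?_
      rw [← hA1, ← hA2]
      ring
    have h6 : ((∑ χ, A η χ * A η' χ : ℤ) : ℂ) = ((if η = η' then 8 else 0 : ℤ) : ℂ) := by
      rw [h5, h1, h3]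
      by_cases h7 : η = η'
      · rw [if_pos (congrArg Subtype.val h7)] at h4
        rw [if_pos h7]
        push_cast
        linear_combination 8 * h4
      · rw [if_neg (fun h8 => h7 (Subtype.ext h8))] at h4
        rw [if_neg h7]
        push_cast
        linear_combination 8 * h4
    exact_mod_cast h6
  · by_contra hno
    push Not at hno
    obtain ⟨ξ, hξ, hξ'⟩ : ∃ ξ ∈ b, ξ ∉ Fa z b := by
      by_contra h1
      push Not at h1
      have h2 : Nat.card b ≤ Nat.card (Fa z b) := Nat.card_mono (Set.toFinite _) h1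
      omega
    have h1 : (c η₀ ⟨ξ, hξ⟩ : ℂ) = ((∑ χ : B, A η₀ χ * n χ ⟨ξ, hξ⟩ : ℤ) : ℂ) := by
      have h2 := congrArg conj (hc2 η₀ ⟨ξ, hξ⟩)
      rw [map_mul, Characters.Core.classInner_conj_symm, map_intCast, map_ofNat] at h2
      rw [← h2, ← resB_ind hM hD hTI hb (hf1 η₀) (hf0 η₀)]
      change 4 * classInner (resB D b (F η₀)) _ = _
      rw [span_eq_sum (hF1 η₀), map_sum, Characters.Core.classInner_sum_left, Finset.mul_sum]
      push_cast
      refine Finset.sum_congr rfl fun χ _ => ?_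
      rw [map_smul, Characters.Core.classInner_smul_left, hn χ ⟨ξ, hξ⟩, ← hA1]
      ring
    have h2 : c η₀ ⟨ξ, hξ⟩ = ∑ χ : B, A η₀ χ * n χ ⟨ξ, hξ⟩ := by exact_mod_cast h1
    have h3 := (hc1 η₀ ⟨ξ, hξ⟩).2 hξ'
    rw [h2, ← Int.not_even_iff_odd] at h3
    refine h3 (Finset.even_sum _ fun χ _ => Even.mul_right ?_ _)
    have h4 : (2 : ℤ) ∣ A η₀ χ - ∑ ξ ∈ Finset.univ.filter (fun ξ : b => ξ.1 ∉ Fa z b), (n χ ξ : ℤ) := by
      rw [Finset.sum_filter, ← Finset.sum_sub_distrib]
      refine Finset.dvd_sum fun ξ _ => ?_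
      split_ifs with h2
      · rw [sub_zero]
        exact Dvd.dvd.mul_left (even_iff_two_dvd.1 (Int.not_odd_iff_even.1 fun h3 => (hc1 η₀ ξ).1 h3 h2)) _
      · obtain ⟨k, hk⟩ := (hc1 η₀ ξ).2 h2
        exact ⟨n χ ξ * k, by rw [hk]; ring⟩
    obtain ⟨k, hk⟩ := h4
    have h5 := Int.not_odd_iff_even.1 (hno χ)
    rw [sub_eq_iff_eq_add.1 hk]
    exact Even.add ⟨k, by ring⟩ h5
  · intro η
    have h1 : F η 1 = 0 := pReg_eq_zero_iff.1 (hF0 η) 1 (by unfold IsPRegular; rw [orderOf_one]; omega)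
    rw [span_eq_sum (hF1 η), Finset.sum_apply] at h1
    have h2 : ((∑ χ : B, A η χ * (charDegree ((χ : IrrCharacter G) : G → ℂ) : ℤ) : ℤ) : ℂ) = 0 := by
      rw [← mul_zero (4 : ℂ), ← h1, Finset.mul_sum]
      push_cast
      refine Finset.sum_congr rfl fun χ _ => ?_
      rw [Pi.smul_apply, smul_eq_mul, ← hA1, irr_one_eq_charDegree (χ : IrrCharacter G).2]
      ring
    exact_mod_cast h2
  · intro χ
    by_contra hno
    push Not at hno
    obtain ⟨g, hg, hgD, hg0⟩ := H614.Spin.exists_defect_elt hM hb.2.1 hD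
    have hgN : g ∈ Nm D := Subgroup.centralizer_le_normalizer _ (Subgroup.mem_centralizer_iff.2 hgD)
    refine hg0 z h.mem (fun d hd => ?_) χ χ.2 ?_
    · exact (congrArg Subtype.val (h.cen ⟨d, Subgroup.le_normalizer hd⟩)).symm
    set θ := resB D b ((χ : IrrCharacter G) : G → ℂ) with hθ
    have hθ1 : θ ∈ charSpan b := resB_mem D b _
    have hθ2 : sh z θ ∈ charSpan b := by
      have h1 := charSpan_mono (fun η hη => hη.1) (h.sub_mem hθ1)
      have h2 := Submodule.sub_mem _ hθ1 h1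
      rwa [sub_sub_cancel] at h2
    have hψ1 : pReg 2 (sh z θ) ∈ charSpan b := map_pReg_le hM hbU ⟨_, hθ2, rfl⟩
    have hψ2 := h.sub_mem hψ1
    have h1 : pReg 2 (sh z θ) - sh z (pReg 2 (sh z θ)) = 0 := by
      rw [span_eq_sum hψ2]
      refine Finset.sum_eq_zero fun η _ => ?_
      have h2 := hA η χ
      rw [hno η, h.inner_sg hM hb.1 hbD η.2, ← inner_pReg_left] at h2
      rw [Characters.Core.classInner_sub_left, h.inner_sh_left, η.2.2, Characters.Core.classInner_neg_right]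
      have h3 : classInner (pReg 2 (sh z θ)) ((η : IrrCharacter (Nm D)) : Nm D → ℂ) = 0 := by
        push_cast at h2
        linear_combination -h2 / 4
      rw [h3, neg_zero, sub_zero, zero_smul]
    have hg' : IsPRegular 2 (⟨g, hgN⟩ : Nm D) := (H608.TI.reg_coe _).1 hg
    have h2 := congrFun h1 ⟨g, hgN⟩
    rw [Pi.sub_apply, sh_apply, pReg_of hg', pReg_of_not (h.not_reg hg'), sub_zero, sh_apply, hθ,
      resB_eq hM hD hTI hb (mem_span_of_mem χ.2) (inT_coe.1 ⟨z, h.ppart hg', h.mem, h.ne⟩)] at h2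
    exact h2

/-- **S4622 for TI defect groups `Q₈`.** -/
theorem concl_eight (hM : IsPModular 2 M) (hB : IsPBlock M B) (hD : IsDefectGroup 2 M B D) (hTI : IsTI D)
    (e : D ≃* QuaternionGroup 2) : Concl 2 M B D := by
  have : Fact (Nat.Prime 2) := ⟨Nat.prime_two⟩
  refine concl_of_kh hM hB hD fun b hb h => ?_
  let e' : D.subgroupOf (Nm D) ≃* QuaternionGroup 2 := (Subgroup.subgroupOfEquivOfLe Subgroup.le_normalizer).trans e
  obtain ⟨-, -, -, h0, h1, -⟩ := Cfsg.Agent.S4530.result M hM B hB D hD 3 le_rfl ⟨e⟩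
  obtain ⟨-, -, -, h0', h1', -⟩ := Cfsg.Agent.S4530.result M hM b hb.1 _ (defect_br hM hD hb) 3 le_rfl ⟨e'⟩
  have hk := card_eight hM hD hTI e hb
  have e1 := card_eq_sum_kh (p := 2) B {0, 1} fun χ hχ => by
    have := h1 χ hχ
    simp only [Finset.mem_insert, Finset.mem_singleton]
    omega
  have e2 := card_eq_sum_kh (p := 2) b {0, 1} fun χ hχ => by
    have := h1' χ hχ
    simp only [Finset.mem_insert, Finset.mem_singleton]
    omega
  rw [Finset.sum_pair (by norm_num)] at e1 e2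
  have e3 : kh 2 B 0 = 4 := h0
  have e4 : kh 2 b 0 = 4 := h0'
  by_cases c0 : h = 0
  · rw [c0, e3, e4]
  by_cases c1 : h = 1
  · rw [c1]
    omega
  rw [kh_eq_zero B, kh_eq_zero b]
  · intro χ hχ h2
    have := h1' χ hχ
    omega
  · intro χ hχ h2
    have := h1 χ hχ
    omega

/-- **S4622 for generalized quaternion TI defect groups.** -/
theorem concl_quat (hM : IsPModular 2 M) (hB : IsPBlock M B) (hD : IsDefectGroup 2 M B D) (hTI : IsTI D)
    {n : ℕ} (hn : 3 ≤ n) (e : D ≃* QuaternionGroup (2 ^ (n - 2))) : Concl 2 M B D := by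
  rcases Nat.lt_or_ge 3 n with h | h
  · exact concl_quat_ge hM hB hD hTI (by omega) e
  · obtain rfl : n = 3 := le_antisymm h hn
    exact concl_eight hM hB hD hTI e

end Cfsg.Agent.TID.Blk
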