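import Mathlib
import Cfsg.Agent.TID.GDefs
import Cfsg.Agent.Lib.GenFitting
import Cfsg.Agent.Lib.PComponents
import Cfsg.Agent.Lib.CoprimeStab
import Cfsg.Agent.S0058

/-!
# S4622 (project TID): the toolkit for radical TI subgroups (helper62)

* `TI.mem`, `TI.cent_le`, `TI.norm_le`, `ti_of_mem` (B1);
* `Loc.le_of_normal` (`O_p(K) ≤ D` if `N(D)` normalizes `K`), `Loc.le_norm_of_coprime`, `Loc.cent_of_coprime` (B2);
* `Loc.cent_of_comp` (B3), `AS.cenP_of_Q`, `AS.cenP_of_char` (B4), `AS.mem_pCore` (B5);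
* `AS.not_le`, `AS.dvd`, `AS.cent_of_bot`, `AS.bot_of_bot` (the case `D ∩ S = 1`);
* `Loc.dich`, `Loc.comp_of_two`, `AS.tri` (B6), `AS.exists_central`.
-/

set_option autoImplicit false
set_option linter.unusedSectionVars false
set_option maxHeartbeats 400000

namespace Cfsg.Agent.TID

open Cfsg Subgroup
open Cfsg.Agent.SignalizersComponents
open scoped Pointwise commutatorElement

universe u

variable {X : Type u} [Group X]

/-- the normalizer -/
abbrev Nz (D : Subgroup X) : Subgroup X := normalizer (D : Set X)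

/-- the centralizer -/
abbrev Cz (D : Subgroup X) : Subgroup X := centralizer (D : Set X)

/-- the centralizer of an element -/
abbrev C1 (x : X) : Subgroup X := centralizer ({x} : Set X)

/-- the conjugate `g D g⁻¹` -/
abbrev cj (g : X) (D : Subgroup X) : Subgroup X := D.map (MulAut.conj g).toMonoidHom

theorem mem_cj {g x : X} {D : Subgroup X} : x ∈ cj g D ↔ g⁻¹ * x * g ∈ D := by
  constructor
  · rintro ⟨y, hy, rfl⟩
    change g⁻¹ * (g * y * g⁻¹) * g ∈ D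
    rwa [show g⁻¹ * (g * y * g⁻¹) * g = y by group]
  · intro h
    exact ⟨_, h, by change g * (g⁻¹ * x * g) * g⁻¹ = x; group⟩

theorem card_cj (g : X) (D : Subgroup X) : Nat.card (cj g D) = Nat.card D :=
  card_map_of_injective (MulAut.conj g).injective

theorem mem_C1 {x y : X} : y ∈ C1 x ↔ x * y = y * x := by
  rw [mem_centralizer_singleton_iff]; exact eq_comm

theorem mem_Cz {D : Subgroup X} {y : X} : y ∈ Cz D ↔ ∀ x ∈ D, x * y = y * x := mem_centralizer_iff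

theorem Cz_le_C1 {D : Subgroup X} {x : X} (hx : x ∈ D) : Cz D ≤ C1 x := fun _ hy => mem_C1.2 (mem_Cz.1 hy x hx)

theorem conj_mem {D : Subgroup X} {g x : X} (hg : g ∈ Nz D) (hx : x ∈ D) : g * x * g⁻¹ ∈ D :=
  (mem_normalizer_iff.1 hg x).1 hx

theorem conj_mem' {D : Subgroup X} {g x : X} (hg : g ∈ Nz D) (hx : x ∈ D) : g⁻¹ * x * g ∈ D := by
  have := conj_mem (inv_mem hg) hx
  rwa [inv_inv] at this

theorem le_Nz {H D : Subgroup X} (h : ∀ g ∈ H, ∀ x ∈ D, g * x * g⁻¹ ∈ D) : H ≤ Nz D := by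
  intro g hg
  rw [mem_normalizer_iff]
  intro x
  refine ⟨h g hg x, fun hx => ?_⟩
  have := h g⁻¹ (inv_mem hg) _ hx
  rwa [show g⁻¹ * (g * x * g⁻¹) * g⁻¹⁻¹ = x by group] at this

theorem le_Nz_inf {H A B : Subgroup X} (hA : H ≤ Nz A) (hB : H ≤ Nz B) : H ≤ Nz (A ⊓ B) :=
  le_Nz fun _ hg _ hx => ⟨conj_mem (hA hg) hx.1, conj_mem (hB hg) hx.2⟩

theorem le_Nz_normal (H A : Subgroup X) [hA : A.Normal] : H ≤ Nz A := le_Nz fun g _ x hx => hA.conj_mem x hx g

theorem Nz_le_Nz_Cz (D : Subgroup X) : Nz D ≤ Nz (Cz D) := by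
  refine le_Nz fun g hg x hx => mem_Cz.2 fun y hy => ?_
  have h1 := mem_Cz.1 hx _ (conj_mem' hg hy)
  calc y * (g * x * g⁻¹) = g * ((g⁻¹ * y * g) * x) * g⁻¹ := by group
    _ = g * x * g⁻¹ * y := by rw [h1]; group

theorem Nz_le_Nz_char {K : Subgroup X} (C : Subgroup K) [hC : C.Characteristic] : Nz K ≤ Nz (C.map K.subtype) := by
  refine le_Nz ?_
  rintro g hg _ ⟨x, hx, rfl⟩
  let φ : K ≃* K := K.normalizerMonoidHom ⟨g, hg⟩
  have h1 : φ x ∈ C := by
    have h2 := characteristic_iff_map_le.1 hC φ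
    exact h2 ⟨x, hx, rfl⟩
  exact ⟨φ x, h1, rfl⟩

/-- two subgroups normalizing each other and meeting trivially commute -/
theorem le_Cz_of_disjoint {A B : Subgroup X} (h1 : A ≤ Nz B) (h2 : B ≤ Nz A) (h3 : A ⊓ B = ⊥) : A ≤ Cz B := by
  intro a ha
  refine mem_Cz.2 fun b hb => ?_
  have h4 : b * a * b⁻¹ * a⁻¹ ∈ A ⊓ B := by
    refine mem_inf.2 ⟨mul_mem (conj_mem (h2 hb) ha) (inv_mem ha), ?_⟩
    rw [show b * a * b⁻¹ * a⁻¹ = b * (a * b⁻¹ * a⁻¹) by group]
    exact mul_mem hb (conj_mem (h1 ha) (inv_mem hb))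
  rw [h3, mem_bot] at h4
  calc b * a = (b * a * b⁻¹ * a⁻¹) * (a * b) := by group
    _ = a * b := by rw [h4, one_mul]

theorem le_Cz_comm {A B : Subgroup X} (h : A ≤ Cz B) : B ≤ Cz A := le_centralizer_iff.1 h

/-! ### B1 -/

theorem TI.mem {D : Subgroup X} (h : TI D) {x g : X} (hx : x ∈ D) (hx1 : x ≠ 1) (hg : g⁻¹ * x * g ∈ D) : g ∈ Nz D := by
  by_contra hcon
  have h1 : x ∈ D ⊓ (MulAut.conj g • D) := by
    refine mem_inf.2 ⟨hx, ?_⟩
    rw [mem_pointwise_smul_iff_inv_smul_mem, ← map_inv, MulAut.smul_def, MulAut.conj_apply, inv_inv]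
    exact hg
  rw [h g hcon, mem_bot] at h1
  exact hx1 h1

theorem TI.mem' {D : Subgroup X} (h : TI D) {x g : X} (hx : x ∈ D) (hx1 : x ≠ 1) (hg : g * x * g⁻¹ ∈ D) : g ∈ Nz D := by
  have := h.mem (g := g⁻¹) hx hx1 (by rwa [inv_inv])
  exact (inv_mem_iff.1 this)

theorem ti_of_mem {D : Subgroup X} (h : ∀ x g : X, x ∈ D → x ≠ 1 → g⁻¹ * x * g ∈ D → g ∈ Nz D) : TI D := by
  intro g hg
  rw [eq_bot_iff]
  intro x hx
  rw [mem_bot]
  by_contra hx1
  obtain ⟨h1, h2⟩ := mem_inf.1 hx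
  rw [mem_pointwise_smul_iff_inv_smul_mem, ← map_inv, MulAut.smul_def, MulAut.conj_apply, inv_inv] at h2
  exact hg (h x g h1 hx1 h2)

theorem TI.cent_le {D : Subgroup X} (h : TI D) {x : X} (hx : x ∈ D) (hx1 : x ≠ 1) : C1 x ≤ Nz D := by
  intro g hg
  apply h.mem hx hx1
  rw [mul_assoc, mem_C1.1 hg, inv_mul_cancel_left]
  exact hx

theorem TI.norm_le {D : Subgroup X} (h : TI D) {Z : Subgroup X} (hZ : Z ≤ D) (hZ1 : Z ≠ ⊥) : Nz Z ≤ Nz D := by
  intro g hg
  obtain ⟨z, hz, hz1⟩ := Z.bot_or_exists_ne_one.resolve_left hZ1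
  exact h.mem (hZ hz) hz1 (hZ (conj_mem' hg hz))

theorem TI.inf_cj {D : Subgroup X} (h : TI D) {g : X} (hg : g ∉ Nz D) : D ⊓ cj g D = ⊥ := by
  rw [eq_bot_iff]
  intro x hx
  rw [mem_bot]
  by_contra hx1
  exact hg (h.mem hx.1 hx1 (mem_cj.1 hx.2))

/-! ### rank two -/

section rk

variable {p : ℕ} [hp : Fact p.Prime] {V : Subgroup X}

theorem el_comm (hV : IsElementaryAbelian p V) {a b : X} (ha : a ∈ V) (hb : b ∈ V) : a * b = b * a :=
  congrArg Subtype.val (hV.1.1.1 ⟨a, ha⟩ ⟨b, hb⟩)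

theorem el_order (hV : IsElementaryAbelian p V) {a : X} (ha : a ∈ V) (ha1 : a ≠ 1) : orderOf a = p :=
  orderOf_eq_prime (hV.2 a ha) ha1

theorem el_not_cyclic (hV : IsElementaryAbelian p V) (hc : Nat.card V = p ^ 2) : ¬ IsCyclic V := by
  intro h
  obtain ⟨g, hg⟩ := h.exists_ofOrder_eq_natCard
  have h1 : orderOf g ∣ p := orderOf_dvd_of_pow_eq_one (Subtype.ext (hV.2 g g.2))
  rw [hg, hc] at h1
  have h2 := Nat.le_of_dvd hp.out.pos h1
  have h3 := hp.out.one_lt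
  nlinarith

theorem el_ne_bot (hc : Nat.card V = p ^ 2) : V ≠ ⊥ := by
  rintro rfl
  rw [card_bot] at hc
  have h3 := hp.out.one_lt
  nlinarith

/-- a second generator -/
theorem el_exists_not_mem (hV : IsElementaryAbelian p V) (hc : Nat.card V = p ^ 2) (a : X) (ha : a ∈ V) :
    ∃ b ∈ V, b ∉ zpowers a := by
  by_contra hcon
  push Not at hcon
  apply el_not_cyclic hV hc
  refine ⟨⟨⟨a, ha⟩, fun x => ?_⟩⟩
  obtain ⟨k, hk⟩ := mem_zpowers_iff.1 (hcon x x.2)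
  exact ⟨k, Subtype.ext (by simpa using hk)⟩

theorem Rk2.ne_bot {D : Subgroup X} (h : Rk2 p D) : D ≠ ⊥ := by
  obtain ⟨V, h1, -, h3⟩ := h
  rintro rfl
  exact el_ne_bot h3 (le_bot_iff.1 h1)

theorem Rk2.not_cyclic {D : Subgroup X} (h : Rk2 p D) : ¬ IsCyclic D := by
  obtain ⟨V, h1, h2, h3⟩ := h
  intro hc
  exact el_not_cyclic h2 h3 (isCyclic_of_injective (inclusion h1) (inclusion_injective h1))

theorem Rk2.sq_dvd {D : Subgroup X} (h : Rk2 p D) : p ^ 2 ∣ Nat.card D := by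
  obtain ⟨V, h1, -, h3⟩ := h
  rw [← h3]
  exact card_dvd_of_le h1

end rk

section fin

variable [Finite X] {p : ℕ} [hp : Fact p.Prime] {S D : Subgroup X}

omit hp in
theorem pow_eq_one_of_mem {Q : Subgroup X} (hQ : IsPGroup p Q) {x : X} (hx : x ∈ Q) : ∃ k, x ^ p ^ k = 1 := by
  obtain ⟨k, hk⟩ := hQ ⟨x, hx⟩
  exact ⟨k, congrArg Subtype.val hk⟩

theorem eq_one_of_pow {x : X} {k : ℕ} (hk : x ^ p ^ k = 1) (h : ¬ p ∣ orderOf x) : x = 1 := by
  obtain ⟨j, -, hj⟩ := (Nat.dvd_prime_pow hp.out).1 (orderOf_dvd_of_pow_eq_one hk)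
  rcases Nat.eq_zero_or_pos j with rfl | h0
  · exact orderOf_eq_one_iff.1 (by rw [hj, pow_zero])
  · exact absurd (hj ▸ dvd_pow_self p h0.ne') h

theorem inf_eq_bot_of_not_dvd {Q Y : Subgroup X} (hQ : IsPGroup p Q) (hY : ¬ p ∣ Nat.card Y) : Y ⊓ Q = ⊥ := by
  rw [eq_bot_iff]
  intro x hx
  obtain ⟨k, hk⟩ := pow_eq_one_of_mem hQ hx.2
  exact eq_one_of_pow hk fun h => hY (h.trans (orderOf_dvd_natCard Y hx.1))

/-- a group all of whose elements of order prime to `p` are trivial is a `p`-group -/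
theorem isPGroup_of_reg {K : Subgroup X} (h : ∀ y ∈ K, ¬ p ∣ orderOf y → y = 1) : IsPGroup p K := by
  intro x
  obtain ⟨k, m, hm, hk⟩ := Nat.exists_eq_pow_mul_and_not_dvd (orderOf_pos (x : X)).ne' p hp.out.ne_one
  refine ⟨k, Subtype.ext ?_⟩
  have h1 : ((x : X) ^ p ^ k) ^ m = 1 := by rw [← pow_mul, ← hk, pow_orderOf_eq_one]
  exact h _ (pow_mem x.2 _) fun h2 => hm (h2.trans (orderOf_dvd_of_pow_eq_one h1))

/-- `O_p(K) ≤ D` if `N(D)` normalizes `K` -/
theorem Rad.le_of_normal (h : Rad p D) {K Q : Subgroup X} (hK : Nz D ≤ Nz K) (hQK : Q ≤ K) (hn : K ≤ Nz Q)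
    (hQ : IsPGroup p Q) : Q ≤ D := by
  have hch := Lib.Cores.pCore_characteristic (G := K) p
  have h1 : (pCore p K).map K.subtype ≤ D :=
    h _ ((Lib.Cores.pCore_isPGroup p).map _) (hK.trans (Nz_le_Nz_char _))
  refine le_trans ?_ h1
  intro x hx
  refine ⟨⟨x, hQK hx⟩, ?_, rfl⟩
  refine Lib.Cores.le_pCore (N := Q.subgroupOf K) (normal_subgroupOf_of_le_normalizer hn) ?_ hx
  exact hQ.comap_subtype

theorem Loc.le_of_normal (h : Loc p D) {K Q : Subgroup X} (hK : Nz D ≤ Nz K) (hQK : Q ≤ K) (hn : K ≤ Nz Q)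
    (hQ : IsPGroup p Q) : Q ≤ D := h.rad.le_of_normal hK hQK hn hQ

/-! ### B2 -/

/-- a `p'`-subgroup normalized by `V` normalizes `D` -/
theorem TI.le_norm_of_coprime (h : TI D) {V Y : Subgroup X} (hVD : V ≤ D) (hV : IsElementaryAbelian p V)
    (hc : Nat.card V = p ^ 2) (hY : ¬ p ∣ Nat.card Y) (hn : V ≤ Nz Y) : Y ≤ Nz D := by
  have := hV.1
  have hcop : (Nat.card V).Coprime (Nat.card Y) := by
    rw [hc]
    exact Nat.Coprime.pow_left _ ((Nat.Prime.coprime_iff_not_dvd hp.out).2 hY)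
  rw [← Cfsg.Agent.S0058.result V Y (el_not_cyclic hV hc) hn hcop]
  refine iSup_le fun a => iSup_le fun ha => ?_
  exact inf_le_right.trans (h.cent_le (hVD ha.1) ha.2)

/-- a `p'`-subgroup normalized by `A`, `V ≤ A ≤ D`, is centralized by `A` -/
theorem TI.cent_of_coprime (h : TI D) (hD : IsPGroup p D) {A Y : Subgroup X} (hAD : A ≤ D) (hA : Rk2 p A)
    (hY : ¬ p ∣ Nat.card Y) (hn : A ≤ Nz Y) : Y ≤ Cz A := by
  obtain ⟨V, h1, h2, h3⟩ := hA
  have h4 := h.le_norm_of_coprime (h1.trans hAD) h2 h3 hY (h1.trans hn)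
  intro y hy
  refine mem_Cz.2 fun a ha => ?_
  have h5 : a * y * a⁻¹ * y⁻¹ ∈ Y ⊓ D := by
    refine mem_inf.2 ⟨mul_mem (conj_mem (hn ha) hy) (inv_mem hy), ?_⟩
    rw [show a * y * a⁻¹ * y⁻¹ = a * (y * a⁻¹ * y⁻¹) by group]
    exact mul_mem (hAD ha) (conj_mem (h4 hy) (inv_mem (hAD ha)))
  rw [inf_eq_bot_of_not_dvd hD hY, mem_bot] at h5
  calc a * y = (a * y * a⁻¹ * y⁻¹) * (y * a) := by group
    _ = y * a := by rw [h5, one_mul]

theorem Loc.cent_of_coprime (h : Loc p D) {Y : Subgroup X} (hY : ¬ p ∣ Nat.card Y) (hn : D ≤ Nz Y) : Y ≤ Cz D :=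
  h.ti.cent_of_coprime h.pgrp le_rfl h.rk hY hn

theorem rk2_self {V : Subgroup X} (hV : IsElementaryAbelian p V) (hc : Nat.card V = p ^ 2) : Rk2 p V :=
  ⟨V, le_rfl, hV, hc⟩

/-! ### B3 -/

theorem solvable_of_pgroup {Q : Subgroup X} (hQ : IsPGroup p Q) : Group.IsSolvable Q := by
  have := hQ.isNilpotent
  infer_instance

/-- a component of `H ≥ Q` which normalizes the `p`-group `Q` centralizes it -/
theorem cent_of_comp {H L Q : Subgroup X} (hQ : IsPGroup p Q) (hQH : Q ≤ H) (hLH : L ≤ H)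
    (hL : IsComponent (L.subgroupOf H)) (hn : L ≤ Nz Q) : L ≤ Cz Q := by
  have h1 : IsPGroup p (Q.subgroupOf H) := hQ.comap_subtype
  have h2 : L.subgroupOf H ≤ Nz (Q.subgroupOf H) :=
    le_Nz fun g hg x hx => conj_mem (D := Q) (g := (g : X)) (hn hg) hx
  have h3 := Lib.ComponentSolvable.commutator_component_solvable_eq_bot hL (solvable_of_pgroup h1) h2
  rw [commutator_eq_bot_iff_le_centralizer] at h3
  intro l hl
  refine mem_Cz.2 fun q hq => ?_
  exact congrArg Subtype.val (mem_Cz.1 (h3 (show (⟨l, hLH hl⟩ : H) ∈ L.subgroupOf H from hl)) ⟨q, hQH hq⟩ hq)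

/-- a component of `H` is a component of every `K` with `L ≤ K ≤ H` -/
theorem comp_of_le {H K L : Subgroup X} (hLK : L ≤ K) (hKH : K ≤ H) (hL : IsComponent (L.subgroupOf H)) :
    IsComponent (L.subgroupOf K) := by
  have h1 : L.subgroupOf H ≤ K.subgroupOf H := fun _ hx => hLK hx
  have h2 := Components.isComponent_subgroupOf h1 hL
  have h3 := Components.isComponent_map_equiv (subgroupOfEquivOfLe hKH) h2
  convert h3 using 1
  ext x
  constructor
  · intro hx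
    exact ⟨⟨⟨x, hKH x.2⟩, x.2⟩, hx, rfl⟩
  · rintro ⟨y, hy, rfl⟩
    exact hy

/-! ### the socle -/

omit [Finite X] in
theorem Soc.ne_bot (h : Soc S) : S ≠ ⊥ := by
  have := h.simple
  exact (nontrivial_iff_ne_bot S).1 inferInstance

/-- `S` normalizes no nontrivial `p`-subgroup -/
theorem Soc.eq_bot (h : Soc S) {Q : Subgroup X} (hQ : IsPGroup p Q) (hn : S ≤ Nz Q) : Q = ⊥ := by
  have := h.simple
  have := h.normal
  have h1 : (Q.subgroupOf S).Normal := normal_subgroupOf_of_le_normalizer hn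
  rcases h1.eq_bot_or_eq_top with h2 | h2
  · have h3 : Q ⊓ S = ⊥ := by
      rw [eq_bot_iff]
      intro x hx
      have h4 : (⟨x, hx.2⟩ : S) ∈ Q.subgroupOf S := hx.1
      rw [h2, mem_bot] at h4
      exact congrArg Subtype.val h4
    have h4 := le_Cz_of_disjoint (le_Nz_normal Q S) hn h3
    rw [show Cz S = ⊥ from h.cent] at h4
    exact le_bot_iff.1 h4
  · exfalso
    have h3 : IsPGroup p S := by
      have h4 : IsPGroup p (Q.subgroupOf S) := hQ.comap_subtype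
      rw [h2] at h4
      exact h4.of_equiv topEquiv
    have h4 := IsPGroup.center_nontrivial h3
    rcases (inferInstance : (center S).Normal).eq_bot_or_eq_top with h5 | h5
    · exact absurd h5 ((nontrivial_iff_ne_bot _).1 h4)
    · refine h.nonab ⟨⟨fun a b => ?_⟩⟩
      exact mem_center_iff.1 (h5 ▸ mem_top b) a

theorem AS.not_le (h : AS p S D) : ¬ S ≤ Nz D := fun h1 => h.loc.rk.ne_bot (h.soc.eq_bot h.loc.pgrp h1)

/-- no nontrivial element centralizes `S` -/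
theorem AS.not_cent (h : AS p S D) {x : X} (hx1 : x ≠ 1) : ¬ S ≤ C1 x := by
  intro h1
  have h2 : x ∈ Cz S := mem_Cz.2 fun y hy => (mem_C1.1 (h1 hy)).symm
  rw [show Cz S = ⊥ from h.soc.cent] at h2
  exact hx1 h2

theorem AS.dvd (h : AS p S D) : p ∣ Nat.card S := by
  by_contra hcon
  have := h.soc.normal
  exact h.not_le ((h.loc.cent_of_coprime hcon (le_Nz_normal D S)).trans (centralizer_le_normalizer _))

theorem AS.norm_cen (h : AS p S D) : Nz D ≤ Nz (S ⊓ Cz D) := by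
  have := h.soc.normal
  exact le_Nz_inf (le_Nz_normal _ S) (Nz_le_Nz_Cz D)

/-! ### B4, B5 -/

/-- **B4.** -/
theorem AS.cenP_of_Q (h : AS p S D) {Q : Subgroup X} (hQ : IsPGroup p Q) (hQN : Q ≤ Nz D) (hn : S ⊓ Cz D ≤ Nz Q)
    (hc : ∀ y ∈ S ⊓ Cz D, y ∈ Cz Q → ¬ p ∣ orderOf y → y = 1) : CenP p S D := by
  have h1 : Q ⊓ (S ⊓ Cz D) ≤ D :=
    h.loc.le_of_normal h.norm_cen inf_le_right (le_Nz_inf hn le_normalizer) (hQ.to_le inf_le_left)
  refine isPGroup_of_reg fun y hy hyp => hc y hy (mem_Cz.2 fun q hq => ?_) hyp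
  have h2 : ⁅q, y⁆ ∈ Q ⊓ (S ⊓ Cz D) := by
    rw [commutatorElement_def]
    refine mem_inf.2 ⟨?_, mul_mem (conj_mem (h.norm_cen (hQN hq)) hy) (inv_mem hy)⟩
    rw [show q * y * q⁻¹ * y⁻¹ = q * (y * q⁻¹ * y⁻¹) by group]
    exact mul_mem hq (conj_mem (hn hy) (inv_mem hq))
  have h3 : (orderOf y).Coprime (Nat.card Q) := by
    obtain ⟨k, hk⟩ := IsPGroup.iff_card.1 hQ
    rw [hk]
    exact Nat.Coprime.pow_right _ ((Nat.Prime.coprime_iff_not_dvd hp.out).2 hyp).symm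
  exact Lib.CoprimeStab.commute_of_commutator_commute h3 h2.1 (mem_Cz.1 hy.2 _ (h1 h2))

/-- **B4** for an overgroup `H` of characteristic `p` with `C_S(D) ≤ H ≤ N(D)`. -/
theorem AS.cenP_of_over (h : AS p S D) {H : Subgroup X} (h1 : S ⊓ Cz D ≤ H) (h2 : H ≤ Nz D)
    (hc : centralizer (pCore p H : Set H) ≤ pCore p H) : CenP p S D := by
  have hch := Lib.Cores.pCore_characteristic (G := H) p
  refine h.cenP_of_Q (Q := (pCore p H).map H.subtype) ((Lib.Cores.pCore_isPGroup p).map _)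
    ((map_subtype_le _).trans h2) (h1.trans (le_normalizer.trans (Nz_le_Nz_char _))) fun y hy hyQ hyp => ?_
  have h3 : (⟨y, h1 hy⟩ : H) ∈ pCore p H := by
    apply hc
    rw [mem_centralizer_iff]
    intro q hq
    exact Subtype.ext (mem_Cz.1 hyQ q ⟨q, hq, rfl⟩)
  obtain ⟨k, hk⟩ := pow_eq_one_of_mem (Lib.Cores.pCore_isPGroup p) h3
  exact eq_one_of_pow (congrArg Subtype.val hk) hyp

/-- **B4** for the centralizer in the group `S` of an element of `D ∩ S`. -/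
theorem AS.cenP_of_char (h : AS p S D) {s : S} (hs : (s : X) ∈ D) (hs1 : s ≠ 1)
    (hc : centralizer (pCore p (C1 s) : Set (C1 s)) ≤ pCore p (C1 s)) : CenP p S D := by
  have hs1' : (s : X) ≠ 1 := fun h1 => hs1 (Subtype.ext h1)
  have e : C1 s ≃* ((C1 s).map S.subtype) := (C1 s).equivMapOfInjective S.subtype S.subtype_injective
  refine h.cenP_of_over (H := (C1 s).map S.subtype) ?_ ?_ ?_
  · intro y hy
    exact ⟨⟨y, hy.1⟩, mem_C1.2 (Subtype.ext (mem_Cz.1 hy.2 _ hs)), rfl⟩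
  · rintro _ ⟨y, hy, rfl⟩
    exact h.loc.ti.cent_le hs hs1' (mem_C1.2 (congrArg Subtype.val (mem_C1.1 hy)))
  · rw [← Lib.Cores.map_equiv_pCore e p]
    intro y hy
    refine ⟨e.symm y, hc ?_, by simp⟩
    rw [mem_centralizer_iff]
    intro q hq
    apply e.injective
    rw [map_mul, map_mul, e.apply_symm_apply]
    exact mem_centralizer_iff.1 hy (e q) ⟨q, hq, rfl⟩

/-- **B5.** For `H ≤ N(D)` the elements of `D ∩ H` lie in `O_p(H)`. -/
theorem Loc.mem_pCore (h : Loc p D) {H : Subgroup X} (hH : H ≤ Nz D) {x : H} (hx : (x : X) ∈ D) : x ∈ pCore p H :=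
  Lib.Cores.le_pCore (N := D.subgroupOf H) (normal_subgroupOf_of_le_normalizer hH) h.pgrp.comap_subtype hx

/-- **B5** in the group `S`. -/
theorem AS.mem_pCore (h : AS p S D) {s : S} (hs : (s : X) ∈ D) (hs1 : s ≠ 1) {x : C1 s} (hx : ((x : S) : X) ∈ D) :
    x ∈ pCore p (C1 s) := by
  have hs1' : (s : X) ≠ 1 := fun h1 => hs1 (Subtype.ext h1)
  refine Lib.Cores.le_pCore (N := (D.subgroupOf S).subgroupOf (C1 s)) (normal_subgroupOf_of_le_normalizer ?_)
    h.loc.pgrp.comap_subtype.comap_subtype hx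
  refine le_Nz fun g hg y hy => ?_
  exact conj_mem (D := D) (g := (g : X)) (h.loc.ti.cent_le hs hs1' (mem_C1.2 (congrArg Subtype.val (mem_C1.1 hg)))) hy

/-! ### the case `D ∩ S = 1` -/

theorem AS.cent_of_bot (h : AS p S D) (h0 : D ⊓ S = ⊥) : S ⊓ Nz D ≤ Cz D := by
  have := h.soc.normal
  intro y hy
  refine mem_Cz.2 fun d hd => ?_
  have h4 : d * y * d⁻¹ * y⁻¹ ∈ D ⊓ S := by
    refine mem_inf.2 ⟨?_, mul_mem (this.conj_mem y hy.1 d) (S.inv_mem hy.1)⟩
    rw [show d * y * d⁻¹ * y⁻¹ = d * (y * d⁻¹ * y⁻¹) by group]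
    exact mul_mem hd (conj_mem hy.2 (inv_mem hd))
  rw [h0, mem_bot] at h4
  calc d * y = (d * y * d⁻¹ * y⁻¹) * (y * d) := by group
    _ = y * d := by rw [h4, one_mul]

/-- `C_S(v) = C_S(D)` -/
theorem AS.cent_eq_of_bot (h : AS p S D) (h0 : D ⊓ S = ⊥) {v : X} (hv : v ∈ D) (hv1 : v ≠ 1) : S ⊓ C1 v = S ⊓ Cz D :=
  le_antisymm (fun _ hy => ⟨hy.1, h.cent_of_bot h0 ⟨hy.1, h.loc.ti.cent_le hv hv1 hy.2⟩⟩)
    (inf_le_inf_left S (Cz_le_C1 hv))

/-- `O_p(C_S(D)) = 1` -/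
theorem AS.bot_of_bot (h : AS p S D) (h0 : D ⊓ S = ⊥) {Q : Subgroup X} (hQ : IsPGroup p Q) (h1 : Q ≤ S ⊓ Cz D)
    (hn : S ⊓ Cz D ≤ Nz Q) : Q = ⊥ := by
  rw [eq_bot_iff, ← h0]
  exact le_inf (h.loc.le_of_normal h.norm_cen h1 hn hQ) (h1.trans inf_le_left)

/-- a `p`-subgroup normalizing a nontrivial `p`-subgroup `Q` centralizes an element of order `p` of `Q` -/
theorem exists_fix {P Q : Subgroup X} (hP : IsPGroup p P) (hQ : IsPGroup p Q) (hQ1 : Q ≠ ⊥) (hn : P ≤ Nz Q) :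
    ∃ z ∈ Q, orderOf z = p ∧ P ≤ C1 z := by
  classical
  let _ : MulAction P Q := MulAction.compHom Q (Q.normalizerMonoidHom.comp (inclusion hn))
  have h1 : p ∣ Nat.card Q := by
    obtain ⟨k, hk⟩ := IsPGroup.iff_card.1 hQ
    rw [hk]
    refine dvd_pow_self p ?_
    rintro rfl
    exact hQ1 (card_eq_one.1 (by rw [hk, pow_zero]))
  have h2 : (1 : Q) ∈ MulAction.fixedPoints P Q := fun g => map_one (Q.normalizerMonoidHom (inclusion hn g))
  obtain ⟨b, hb, hb1⟩ := hP.exists_fixed_point_of_prime_dvd_card_of_fixed_point Q h1 h2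
  have h3 : P ≤ C1 (b : X) := by
    intro g hg
    have h4 : g * (b : X) * g⁻¹ = b := congrArg Subtype.val (hb ⟨g, hg⟩)
    rw [mem_C1, ← mul_inv_eq_iff_eq_mul.1 h4]
  obtain ⟨k, hk⟩ := pow_eq_one_of_mem hQ b.2
  obtain ⟨j, -, hj⟩ := (Nat.dvd_prime_pow hp.out).1 (orderOf_dvd_of_pow_eq_one hk)
  have hj0 : j ≠ 0 := by
    rintro rfl
    exact hb1 (Subtype.ext (orderOf_eq_one_iff.1 (by rw [hj, pow_zero]))).symm
  refine ⟨(b : X) ^ p ^ (j - 1), pow_mem b.2 _, ?_, fun g hg => ?_⟩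
  · rw [orderOf_pow_of_dvd (pow_ne_zero _ hp.out.ne_zero) (by rw [hj]; exact pow_dvd_pow p (by omega)), hj,
      Nat.pow_div (by omega) hp.out.pos, show j - (j - 1) = 1 by omega, pow_one]
  · exact mem_C1.2 ((Commute.pow_left (mem_C1.1 (h3 hg)) _).eq)

/-- `p` divides `|C_S(D)|` -/
theorem AS.exists_cent (h : AS p S D) : ∃ z ∈ S ⊓ Cz D, orderOf z = p := by
  have := h.soc.normal
  obtain ⟨P, hP⟩ := h.loc.pgrp.exists_le_sylow
  have h1 : (P : Subgroup X) ⊓ S ≠ ⊥ := by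
    intro h2
    obtain ⟨x, hx⟩ := exists_prime_orderOf_dvd_card' (G := S) p h.dvd
    have h3 : IsPGroup p (zpowers (x : X)) := by
      refine IsPGroup.of_card (n := 1) ?_
      rw [Nat.card_zpowers, orderOf_coe, hx, pow_one]
    obtain ⟨R, hR⟩ := h3.exists_le_sylow
    obtain ⟨g, rfl⟩ := MulAction.exists_smul_eq X P R
    have h4 : g⁻¹ * x * g ∈ (P : Subgroup X) ⊓ S := by
      refine ⟨?_, this.conj_mem' _ x.2 g⟩
      have h5 := hR (mem_zpowers _)
      rw [Sylow.coe_subgroup_smul, mem_pointwise_smul_iff_inv_smul_mem, ← map_inv, MulAut.smul_def, MulAut.conj_apply,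
        inv_inv] at h5
      exact h5
    rw [h2, mem_bot] at h4
    have h5 : (x : X) = 1 := by
      calc (x : X) = g * (g⁻¹ * x * g) * g⁻¹ := by group
        _ = 1 := by rw [h4]; group
    rw [← orderOf_coe, h5, orderOf_one] at hx
    exact hp.out.ne_one hx.symm
  obtain ⟨z, hz, hz1, hz2⟩ := exists_fix P.isPGroup' (P.isPGroup'.to_le inf_le_left) h1
    (le_Nz_inf le_normalizer (le_Nz_normal _ S))
  exact ⟨z, ⟨hz.2, mem_Cz.2 fun d hd => (mem_C1.1 (hz2 (hP hd))).symm⟩, hz1⟩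

/-- if `C_S(D)` is a `p`-group then `D ∩ S ≠ 1` -/
theorem AS.ne_bot_of_cenP (h : AS p S D) (hc : CenP p S D) : D ⊓ S ≠ ⊥ := by
  intro h0
  obtain ⟨z, hz, hz1⟩ := h.exists_cent
  rw [h.bot_of_bot h0 hc le_rfl le_normalizer, mem_bot] at hz
  rw [hz, orderOf_one] at hz1
  exact hp.out.ne_one hz1.symm

theorem AS.out_of_cenP (h : AS p S D) (hc : CenP p S D) : Out p S D := ⟨h.ne_bot_of_cenP hc, Or.inl hc⟩

/-! ### B6 -/

/-- case I: `N(D)` contains a Sylow subgroup -/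
def CaseI (p : ℕ) (D : Subgroup X) : Prop := ∃ P : Sylow p X, D ≤ P ∧ (P : Subgroup X) ≤ Nz D

/-- case II: `D` centralizes a conjugate -/
def CaseII (p : ℕ) (D : Subgroup X) : Prop :=
  ∃ g : X, g ∉ Nz D ∧ cj g D ≤ Cz D ∧ p * (Nat.card D * Nat.card D) ∣ Nat.card X

theorem TI.dich (h : TI D) (hD : IsPGroup p D) : CaseI p D ∨ CaseII p D := by
  obtain ⟨P, hP⟩ := hD.exists_le_sylow
  -- a Sylow subgroup `P` with `P ∩ N` maximal
  obtain ⟨R, hR⟩ := (hD.comap_subtype (K := Nz D)).exists_le_sylow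
  have hR1 : IsPGroup p ((R : Subgroup (Nz D)).map (Nz D).subtype) := R.isPGroup'.map _
  obtain ⟨P, hP⟩ := hR1.exists_le_sylow
  set R1 := (R : Subgroup (Nz D)).map (Nz D).subtype with hR1def
  have hDR : D ≤ R1 := fun d hd => ⟨⟨d, le_normalizer hd⟩, hR hd, rfl⟩
  have hRN : R1 ≤ Nz D := map_subtype_le _
  have hmax : (P : Subgroup X) ⊓ Nz D ≤ R1 := by
    have h1 : IsPGroup p ((P : Subgroup X).subgroupOf (Nz D)) := P.isPGroup'.comap_subtype
    have h2 := R.is_maximal' h1 (fun x hx => hP ⟨x, hx, rfl⟩)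
    intro x hx
    refine ⟨⟨x, hx.2⟩, ?_, rfl⟩
    change (⟨x, hx.2⟩ : Nz D) ∈ (R : Subgroup (Nz D))
    rw [← h2]
    exact hx.1
  by_cases h1 : (P : Subgroup X) ≤ Nz D
  · exact Or.inl ⟨P, hDR.trans hP, h1⟩
  right
  have hnil := P.isPGroup'.isNilpotent
  have hlt : R1.subgroupOf (P : Subgroup X) < ⊤ := by
    rw [lt_top_iff_ne_top]
    intro h2
    exact h1 ((subgroupOf_eq_top.1 h2).trans hRN)
  obtain ⟨g, hg1, hg2⟩ := SetLike.exists_of_lt (Group.normalizerCondition_of_isNilpotent _ hlt)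
  have hgR : ∀ x ∈ R1, (g : X) * x * (g : X)⁻¹ ∈ R1 := fun x hx =>
    (mem_normalizer_iff.1 hg1 ⟨x, hP hx⟩).1 hx
  have hgR' : ∀ x ∈ R1, (g : X)⁻¹ * x * g ∈ R1 := fun x hx => by
    have := (mem_normalizer_iff.1 (inv_mem hg1) ⟨x, hP hx⟩).1 hx
    rw [inv_inv] at this
    exact this
  have hgN : (g : X) ∉ Nz D := fun h2 => hg2 (hmax ⟨g.2, h2⟩)
  have hcj : cj (g : X) D ≤ R1 := by
    rintro _ ⟨d, hd, rfl⟩
    exact hgR d (hDR hd)
  have hn : D ≤ Nz (cj (g : X) D) := by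
    refine le_Nz fun d hd x hx => mem_cj.2 ?_
    have h2 := conj_mem (hRN (hgR' d (hDR hd))) (mem_cj.1 hx)
    rwa [show (g : X)⁻¹ * d * g * ((g : X)⁻¹ * x * g) * ((g : X)⁻¹ * d * g)⁻¹ = (g : X)⁻¹ * (d * x * d⁻¹) * g by group]
      at h2
  have hdis : cj (g : X) D ⊓ D = ⊥ := by rw [inf_comm]; exact h.inf_cj hgN
  have hc := le_Cz_of_disjoint (hcj.trans hRN) hn hdis
  refine ⟨g, hgN, hc, ?_⟩
  -- the order
  have h2 : Nat.card D * Nat.card D ∣ Nat.card R1 := by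
    let f : D × cj (g : X) D →* R1 :=
      { toFun := fun x => ⟨(x.1 : X) * x.2, mul_mem (hDR x.1.2) (hcj x.2.2)⟩
        map_one' := Subtype.ext (by simp)
        map_mul' := fun x y => Subtype.ext (by
          have h3 := mem_Cz.1 (hc x.2.2) _ y.1.2
          change (x.1 : X) * y.1 * (x.2 * y.2) = x.1 * x.2 * (y.1 * y.2)
          rw [mul_assoc, mul_assoc, ← mul_assoc (y.1 : X), h3, mul_assoc]) }
    have hf : Function.Injective f := by
      rw [injective_iff_map_eq_one]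
      intro x hx
      have h3 : (x.1 : X) * x.2 = 1 := congrArg Subtype.val hx
      have h4 : (x.2 : X) ∈ cj (g : X) D ⊓ D := 
        mem_inf.2 ⟨x.2.2, by rw [eq_inv_of_mul_eq_one_right h3]; exact inv_mem x.1.2⟩
      rw [hdis, mem_bot] at h4
      rw [h4, mul_one] at h3
      exact Prod.ext (Subtype.ext h3) (Subtype.ext h4)
    have h3 := card_dvd_of_injective f hf
    rwa [Nat.card_prod, card_cj] at h3
  have h3 : p * Nat.card R1 ∣ Nat.card (P : Subgroup X) := by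
    have h4 := (R1.subgroupOf (P : Subgroup X)).index_mul_card
    rw [Nat.card_congr (subgroupOfEquivOfLe hP).toEquiv] at h4
    rw [← h4]
    refine Nat.mul_dvd_mul_right ?_ _
    obtain ⟨k, hk⟩ := IsPGroup.index P.isPGroup' (R1.subgroupOf (P : Subgroup X))
    rw [hk]
    refine dvd_pow_self p ?_
    rintro rfl
    exact hlt.ne (index_eq_one.1 (by rw [hk, pow_zero]))
  exact ((Nat.mul_dvd_mul_left p h2).trans h3).trans (card_subgroup_dvd_card _)

theorem Loc.dich (h : Loc p D) : CaseI p D ∨ CaseII p D := h.ti.dich h.pgrp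

/-- in case II the order is divisible by `p ^ 5` -/
theorem CaseII.pow_five (h : CaseII p D) (hr : Rk2 p D) : p ^ 5 ∣ Nat.card X := by
  obtain ⟨g, -, -, h1⟩ := h
  refine Dvd.dvd.trans ?_ h1
  rw [show p ^ 5 = p * (p ^ 2 * p ^ 2) by ring]
  exact Nat.mul_dvd_mul_left p (Nat.mul_dvd_mul hr.sq_dvd hr.sq_dvd)

/-- in case I a nontrivial `D ∩ S` contains a `p`-central element -/
theorem AS.exists_central (h : AS p S D) (h0 : D ⊓ S ≠ ⊥) (h1 : CaseI p D) :
    ∃ (P : Sylow p X) (z : X), D ≤ P ∧ (P : Subgroup X) ≤ Nz D ∧ z ∈ D ∧ z ∈ S ∧ orderOf z = p ∧ (P : Subgroup X) ≤ C1 z := by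
  have := h.soc.normal
  obtain ⟨P, hP1, hP2⟩ := h1
  obtain ⟨z, hz, hz1, hz2⟩ := exists_fix P.isPGroup' (h.loc.pgrp.to_le inf_le_left) h0
    (le_Nz_inf hP2 (le_Nz_normal _ S))
  exact ⟨P, z, hP1, hP2, hz.1, hz.2, hz1, hz2⟩

/-- `L` is a component of `N(D)` of order divisible by `p` -/
structure CompIn (p : ℕ) (D L : Subgroup X) : Prop where
  le : L ≤ Cz D
  comp : IsComponent (L.subgroupOf (Nz D))
  dvd : p ∣ Nat.card L

omit [Finite X] hp in
theorem CompIn.le_Nz {L : Subgroup X} (h : CompIn p D L) : L ≤ Nz D := h.le.trans (centralizer_le_normalizer _)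

omit [Finite X] hp in
theorem CompIn.quasi {L : Subgroup X} (h : CompIn p D L) : IsQuasisimple L :=
  Components.isQuasisimple_of_mulEquiv (subgroupOfEquivOfLe h.le_Nz) h.comp.2

/-- `L` is a component of `C(v)` for all `v ∈ D#` -/
theorem CompIn.comp_C1 {L : Subgroup X} (h : CompIn p D L) (hT : TI D) {v : X} (hv : v ∈ D) (hv1 : v ≠ 1) :
    IsComponent (L.subgroupOf (C1 v)) :=
  comp_of_le (h.le.trans (Cz_le_C1 hv)) (hT.cent_le hv hv1) h.comp

/-- `L ≤ S` if `X / S` is solvable -/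
theorem CompIn.le_soc {L : Subgroup X} (h : CompIn p D L) [S.Normal] (hs : Group.IsSolvable (X ⧸ S)) : L ≤ S := by
  have h1 := h.quasi.1
  have h2 : Group.IsPerfect (L.map (QuotientGroup.mk' S)) :=
    Group.IsPerfect.ofSurjective ((QuotientGroup.mk' S).subgroupMap_surjective L)
  have h3 : L.map (QuotientGroup.mk' S) = ⊥ := by
    by_contra hcon
    have := (nontrivial_iff_ne_bot _).2 hcon
    exact Group.IsPerfect.not_isSolvable (L.map (QuotientGroup.mk' S)) inferInstance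
  rwa [Subgroup.map_eq_bot_iff, QuotientGroup.ker_mk'] at h3

theorem fitting_le (p : ℕ) [hp : Fact p.Prime] (K : Type u) [Group K] [Finite K] :
    fittingSubgroup K ≤ pCore p K ⊔ pPrimeCore p K := by
  rw [Lib.Cores.fittingSubgroup_eq_iSup_pCore]
  refine iSup_le fun q => ?_
  by_cases hq : (q : ℕ) = p
  · rw [hq]; exact le_sup_left
  · refine le_sup_of_le_right (Lib.Cores.le_pPrimeCore (Lib.Cores.pCore_normal _) ?_)
    have := Fact.mk q.2
    obtain ⟨k, hk⟩ := IsPGroup.iff_card.1 (Lib.Cores.pCore_isPGroup (G := K) (q : ℕ))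
    rw [hk]
    exact Nat.Coprime.pow_left _ ((Nat.coprime_primes q.2 hp.out).2 hq)

theorem mem_Cz_genFitting {x : X} (h1 : x ∈ Cz (pCore p X)) (h2 : x ∈ Cz (pPrimeCore p X)) (h3 : x ∈ Cz (layer X)) :
    x ∈ Cz (generalizedFittingSubgroup X) := by
  have h5 : generalizedFittingSubgroup X ≤ C1 x :=
    sup_le (fun y hy => mem_C1.2 (mem_Cz.1 h3 y hy).symm) ((fitting_le p X).trans
      (sup_le (fun y hy => mem_C1.2 (mem_Cz.1 h1 y hy).symm) (fun y hy => mem_C1.2 (mem_Cz.1 h2 y hy).symm)))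
  exact mem_Cz.2 fun y hy => (mem_C1.1 (h5 hy)).symm

/-- a `p`-element centralizing `O_p`, `O_{p'}` and the layer lies in `O_p` -/
theorem mem_pCore_of_cent {x : X} {k : ℕ} (hk : x ^ p ^ k = 1) (h1 : x ∈ Cz (pCore p X)) (h2 : x ∈ Cz (pPrimeCore p X))
    (h3 : x ∈ Cz (layer X)) : x ∈ pCore p X := by
  have hn := Lib.GenFitting.genFitting_normal (G := X)
  have h4 := mem_Cz_genFitting h1 h2 h3
  have h5 : (Cz (generalizedFittingSubgroup X)).Normal := normal_centralizer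
  refine Lib.GenFitting.mem_pCore_of_mem_nilpotent_normal h5 ?_ h4 hk
  have h6 : IsMulCommutative (Cz (generalizedFittingSubgroup X)) :=
    ⟨⟨fun a b => Subtype.ext (mem_Cz.1 b.2 a (Lib.GenFitting.centralizer_genFitting_le a.2))⟩⟩
  let _ : CommGroup (Cz (generalizedFittingSubgroup X)) :=
    { (inferInstance : Group (Cz (generalizedFittingSubgroup X))) with mul_comm := h6.1.1 }
  exact CommGroup.isNilpotent

omit [Finite X] hp in
theorem TI.cj (h : TI D) (g : X) : TI (cj g D) := by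
  refine ti_of_mem fun x c hx hx1 hc => ?_
  have h1 : g⁻¹ * c * g ∈ Nz D := by
    refine h.mem (mem_cj.1 hx) (fun h2 => hx1 ?_) ?_
    · calc x = g * (g⁻¹ * x * g) * g⁻¹ := by group
        _ = 1 := by rw [h2]; group
    · have h3 := mem_cj.1 hc
      rwa [show g⁻¹ * (c⁻¹ * x * c) * g = (g⁻¹ * c * g)⁻¹ * (g⁻¹ * x * g) * (g⁻¹ * c * g) by group] at h3
  rw [mem_normalizer_iff]
  intro y
  rw [mem_cj, mem_cj, mem_normalizer_iff.1 h1 (g⁻¹ * y * g),
    show g⁻¹ * c * g * (g⁻¹ * y * g) * (g⁻¹ * c * g)⁻¹ = g⁻¹ * (c * y * c⁻¹) * g by group]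

omit [Finite X] hp in
theorem Rk2.map {Y : Type u} [Group Y] (h : Rk2 p D) {f : X →* Y} (hf : Function.Injective f) : Rk2 p (D.map f) := by
  obtain ⟨V, h1, h2, h3⟩ := h
  refine ⟨V.map f, map_mono h1, ⟨⟨⟨?_⟩⟩, ?_⟩, by rw [card_map_of_injective hf, h3]⟩
  · rintro ⟨_, a, ha, rfl⟩ ⟨_, b, hb, rfl⟩
    refine Subtype.ext ?_
    change f a * f b = f b * f a
    rw [← map_mul, ← map_mul, show a * b = b * a from congrArg Subtype.val (h2.1.1.1 ⟨a, ha⟩ ⟨b, hb⟩)]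
  · rintro _ ⟨a, ha, rfl⟩
    rw [← map_pow, h2.2 a ha, map_one]

theorem not_dvd_core (K : Type u) [Group K] [Finite K] : ¬ p ∣ Nat.card (pPrimeCore p K) :=
  (Nat.Prime.coprime_iff_not_dvd hp.out).1 (Lib.Cores.pPrimeCore_coprime p).symm

/-- a component of `N(D)` -/
theorem Loc.compIn (h : Loc p D) {J : Subgroup (Nz D)} (hJ : IsComponent J) (hd : p ∣ Nat.card J) :
    CompIn p D (J.map (Nz D).subtype) := by
  have h1 : (J.map (Nz D).subtype).subgroupOf (Nz D) = J := comap_map_eq_self_of_injective (Nz D).subtype_injective J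
  refine ⟨cent_of_comp h.pgrp le_normalizer (map_subtype_le J) (by rw [h1]; exact hJ) (map_subtype_le J),
    by rw [h1]; exact hJ, by rw [card_map_of_injective (Nz D).subtype_injective]; exact hd⟩

/-- in case II `N(D)` has a component of order divisible by `p` -/
theorem Loc.comp_of_two (h : Loc p D) (h2 : CaseII p D) : ∃ L, CompIn p D L := by
  obtain ⟨g, hg, hc, -⟩ := h2
  by_contra hcon
  push Not at hcon
  have hcN : cj g D ≤ Nz D := hc.trans (centralizer_le_normalizer _)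
  have hl : layer (Nz D) ≤ pPrimeCore p (Nz D) := by
    rw [Components.layer_le_iff]
    intro J hJ
    refine Lib.PComponents.le_pPrimeCore_of_isSubnormal hJ.1 ?_
    exact ((Nat.Prime.coprime_iff_not_dvd hp.out).2 fun hd => hcon _ (h.compIn hJ hd)).symm
  have hch := Lib.Cores.pPrimeCore_characteristic (G := Nz D) p
  have hch' := Lib.Cores.pCore_characteristic (G := Nz D) p
  have hr : Rk2 p (cj g D) := h.rk.map (MulAut.conj g).injective
  have hY : (pPrimeCore p (Nz D)).map (Nz D).subtype ≤ Cz (cj g D) := by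
    refine (h.ti.cj g).cent_of_coprime (h.pgrp.map _) le_rfl hr ?_
      (hcN.trans (le_normalizer.trans (Nz_le_Nz_char _)))
    rw [card_map_of_injective (Nz D).subtype_injective]
    exact not_dvd_core _
  have hO : (pCore p (Nz D)).map (Nz D).subtype ≤ D :=
    h.rad _ ((Lib.Cores.pCore_isPGroup p).map _) (le_normalizer.trans (Nz_le_Nz_char _))
  apply hr.ne_bot
  rw [← h.ti.inf_cj hg]
  refine le_antisymm (le_inf (fun x hx => ?_) le_rfl) inf_le_right
  obtain ⟨k, hk⟩ := pow_eq_one_of_mem (h.pgrp.map _) hx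
  have h3 : (⟨x, hcN hx⟩ : Nz D) ∈ Cz (pPrimeCore p (Nz D)) :=
    mem_Cz.2 fun y hy => Subtype.ext (mem_Cz.1 (hY ⟨y, hy, rfl⟩) x hx).symm
  refine hO ⟨⟨x, hcN hx⟩, mem_pCore_of_cent (k := k) (Subtype.ext hk) ?_ h3 (centralizer_le hl h3), rfl⟩
  exact mem_Cz.2 fun y hy => Subtype.ext (mem_Cz.1 (hc hx) _ (hO ⟨y, hy, rfl⟩))

/-- a nontrivial `p'`-subgroup of `C_S(D)` which is normal in `N(D)` -/
structure CoreIn (p : ℕ) (S D Y : Subgroup X) : Prop where
  ne : Y ≠ ⊥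
  le : Y ≤ S ⊓ Cz D
  cop : ¬ p ∣ Nat.card Y
  norm : Nz D ≤ Nz Y

/-- if `C_S(D)` is not a `p`-group then it has a component of order divisible by `p` or a nontrivial `p'`-core -/
theorem AS.comp_or_core (h : AS p S D) (hc : ¬ CenP p S D) :
    (∃ L, CompIn p D L ∧ L ≤ S) ∨ ∃ Y, CoreIn p S D Y := by
  have hKN : S ⊓ Cz D ≤ Nz D := inf_le_right.trans (centralizer_le_normalizer _)
  by_cases h1 : pPrimeCore p ↥(S ⊓ Cz D) = ⊥
  swap
  · right
    have hch := Lib.Cores.pPrimeCore_characteristic (G := ↥(S ⊓ Cz D)) p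
    refine ⟨(pPrimeCore p ↥(S ⊓ Cz D)).map (S ⊓ Cz D).subtype, ?_, map_subtype_le _, ?_,
      h.norm_cen.trans (Nz_le_Nz_char _)⟩
    · rwa [Ne, map_eq_bot_iff_of_injective _ (S ⊓ Cz D).subtype_injective]
    · rw [card_map_of_injective (S ⊓ Cz D).subtype_injective]
      exact not_dvd_core _
  left
  by_contra hcon
  push Not at hcon
  have hl : layer ↥(S ⊓ Cz D) = ⊥ := by
    rw [eq_bot_iff, Components.layer_le_iff]
    intro J hJ
    exfalso
    have hd := Lib.PComponents.prime_dvd_card_component h1 hJ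
    have hn : ((S ⊓ Cz D).subgroupOf (Nz D)).Normal := normal_subgroupOf_of_le_normalizer h.norm_cen
    let e := (subgroupOfEquivOfLe hKN).symm
    have h2 := Components.isComponent_map_subtype hn.isSubnormal (Components.isComponent_map_equiv e hJ)
    have h3 := h.loc.compIn h2 (by
      rw [card_map_of_injective (subtype_injective _), card_map_of_injective e.injective]; exact hd)
    refine hcon _ h3 ?_
    rintro _ ⟨_, ⟨y, -, rfl⟩, rfl⟩
    exact y.2.1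
  apply hc
  have hch' := Lib.Cores.pCore_characteristic (G := ↥(S ⊓ Cz D)) p
  have hO : (pCore p ↥(S ⊓ Cz D)).map (S ⊓ Cz D).subtype ≤ D :=
    h.loc.rad _ ((Lib.Cores.pCore_isPGroup p).map _) (h.norm_cen.trans (Nz_le_Nz_char _))
  refine (Lib.Cores.pCore_eq_top_iff p).1 (eq_top_iff.2 fun x _ => ?_)
  have h2 : x ∈ Cz (generalizedFittingSubgroup ↥(S ⊓ Cz D)) := by
    refine mem_Cz_genFitting (p := p) ?_ ?_ ?_
    · exact mem_Cz.2 fun y hy => Subtype.ext (mem_Cz.1 x.2.2 _ (hO ⟨y, hy, rfl⟩))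
    · rw [h1]; exact mem_Cz.2 fun y hy => by rw [mem_bot.1 hy, one_mul, mul_one]
    · rw [hl]; exact mem_Cz.2 fun y hy => by rw [mem_bot.1 hy, one_mul, mul_one]
  have h3 := Lib.GenFitting.centralizer_genFitting_le h2
  rw [Lib.GenFitting.genFitting_def, hl, bot_sup_eq] at h3
  have h4 := fitting_le p _ h3
  rwa [h1, sup_bot_eq] at h4

/-- **B6.** -/
theorem AS.tri (h : AS p S D) : CenP p S D ∨ (∃ L, CompIn p D L) ∨ (CaseI p D ∧ ∃ Y, CoreIn p S D Y) := by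
  by_cases hc : CenP p S D
  · exact Or.inl hc
  right
  rcases h.loc.dich with h1 | h1
  · rcases h.comp_or_core hc with ⟨L, h2, -⟩ | h2
    · exact Or.inl ⟨L, h2⟩
    · exact Or.inr ⟨h1, h2⟩
  · exact Or.inl (h.loc.comp_of_two h1)

/-- the core lies in `O_{p'}(C_S(s))` -/
theorem CoreIn.core_ne_bot {Y : Subgroup X} (hY : CoreIn p S D Y) (hT : TI D) {s : S} (hs : (s : X) ∈ D) (hs1 : s ≠ 1) :
    pPrimeCore p (C1 s) ≠ ⊥ := by
  have hs1' : (s : X) ≠ 1 := fun h1 => hs1 (Subtype.ext h1)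
  intro h0
  apply hY.ne
  have hle : Y.subgroupOf S ≤ C1 s := fun y hy => mem_C1.2 (Subtype.ext (mem_Cz.1 (hY.le hy).2 _ hs))
  have h1 : (Y.subgroupOf S).subgroupOf (C1 s) ≤ pPrimeCore p (C1 s) := by
    refine Lib.Cores.le_pPrimeCore (normal_subgroupOf_of_le_normalizer (le_Nz fun g hg y hy => ?_)) ?_
    · exact conj_mem (D := Y) (g := (g : X))
        (hY.norm (hT.cent_le hs hs1' (mem_C1.2 (congrArg Subtype.val (mem_C1.1 hg))))) hy
    · rw [Nat.card_congr (subgroupOfEquivOfLe hle).toEquiv,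
        Nat.card_congr (subgroupOfEquivOfLe (hY.le.trans inf_le_left)).toEquiv]
      exact ((Nat.Prime.coprime_iff_not_dvd hp.out).2 hY.cop).symm
  rw [h0] at h1
  rw [eq_bot_iff]
  intro y hy
  have h2 := h1 (show (⟨⟨y, (hY.le hy).1⟩, hle hy⟩ : C1 s) ∈ (Y.subgroupOf S).subgroupOf (C1 s) from hy)
  exact congrArg (fun t : C1 s => ((t : S) : X)) (mem_bot.1 h2)

end fin

end Cfsg.Agent.TID
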